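import Mathlib

/-!
Automorphisms of order dividing `p` with a bounded number of fixed points, on invariant subgroups and
quotients; derived length bookkeeping.
-/

set_option autoImplicit false
set_option linter.unusedSectionVars false
set_option linter.style.haveILetI false

namespace Cfsg.Agent.Grp.Alperin

open Subgroup
open scoped commutatorElement

variable {G : Type*} [Group G]

/-- An automorphism of order dividing `p` with at most `m` fixed points. -/
structure AutOK (p m : ℕ) (α : MulAut G) : Prop where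
  pow : α ^ p = 1
  fix : Nat.card {g : G // α g = g} ≤ m

/-- A subgroup mapped onto itself. -/
abbrev Inv (α : MulAut G) (N : Subgroup G) : Prop := N.map α.toMonoidHom = N

theorem Inv.mem {α : MulAut G} {N : Subgroup G} (h : Inv α N) {x : G} (hx : x ∈ N) : α x ∈ N :=
  h ▸ Subgroup.mem_map_of_mem α.toMonoidHom hx

theorem inv_of_le [Finite G] {α : MulAut G} {N : Subgroup G} (h : ∀ x ∈ N, α x ∈ N) : Inv α N := by
  refine Subgroup.eq_of_le_of_card_ge (by rintro _ ⟨x, hx, rfl⟩; exact h x hx) ?_
  rw [Subgroup.card_map_of_injective α.injective]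

theorem inv_of_char {α : MulAut G} {N : Subgroup G} [hN : N.Characteristic] : Inv α N :=
  Subgroup.characteristic_iff_map_eq.mp hN α

/-- The restriction to an invariant subgroup. -/
noncomputable def sAut (α : MulAut G) (N : Subgroup G) (h : Inv α N) : MulAut N :=
  (MulEquiv.subgroupMap α N).trans (MulEquiv.subgroupCongr h)

theorem sAut_coe (α : MulAut G) (N : Subgroup G) (h : Inv α N) (x : N) :
    ((sAut α N h x : N) : G) = α x := rfl

/-- The automorphism induced on a quotient. -/
noncomputable def qAut (α : MulAut G) (N : Subgroup G) [N.Normal] (h : Inv α N) : MulAut (G ⧸ N) :=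
  QuotientGroup.congr N N α h

theorem qAut_mk (α : MulAut G) (N : Subgroup G) [N.Normal] (h : Inv α N) (x : G) :
    qAut α N h (x : G ⧸ N) = ((α x : G) : G ⧸ N) := rfl

theorem sAut_pow (α : MulAut G) (N : Subgroup G) (h : Inv α N) (k : ℕ) (x : N) :
    (((sAut α N h ^ k) x : N) : G) = (α ^ k) x := by
  induction k with
  | zero => rfl
  | succ k ih => rw [pow_succ', MulAut.mul_apply, sAut_coe, ih, pow_succ', MulAut.mul_apply]

theorem qAut_pow (α : MulAut G) (N : Subgroup G) [N.Normal] (h : Inv α N) (k : ℕ) (x : G) :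
    (qAut α N h ^ k) (x : G ⧸ N) = (((α ^ k) x : G) : G ⧸ N) := by
  induction k with
  | zero => rfl
  | succ k ih => rw [pow_succ', MulAut.mul_apply, ih, qAut_mk, pow_succ', MulAut.mul_apply]

/-- The subgroup of fixed points. -/
def fixSub (α : MulAut G) : Subgroup G := α.toMonoidHom.eqLocus (MonoidHom.id G)

theorem mem_fixSub {α : MulAut G} {x : G} : x ∈ fixSub α ↔ α x = x := Iff.rfl

theorem card_fixSub (α : MulAut G) : Nat.card (fixSub α) = Nat.card {g : G // α g = g} := rfl

/-- The preimage of the fixed points of the quotient. -/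
def fixPre (α : MulAut G) (N : Subgroup G) [N.Normal] : Subgroup G :=
  (((QuotientGroup.mk' N).comp α.toMonoidHom).eqLocus (QuotientGroup.mk' N))

theorem mem_fixPre {α : MulAut G} {N : Subgroup G} [N.Normal] {x : G} :
    x ∈ fixPre α N ↔ ((α x : G) : G ⧸ N) = (x : G) := Iff.rfl

variable [Finite G]

/-- `|C_{G/N}(α)| |N| ≤ |C_G(α)| |T|` when `T` contains all `g⁻¹ α g` lying in `N`. -/
theorem card_fix_quotient_mul (α : MulAut G) (N : Subgroup G) [N.Normal] (h : Inv α N) (T : Set G)
    (hT : ∀ g : G, g⁻¹ * α g ∈ N → g⁻¹ * α g ∈ T) :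
    Nat.card {g : G ⧸ N // qAut α N h g = g} * Nat.card N ≤ Nat.card {g : G // α g = g} * Nat.card T := by
  classical
  set D := fixPre α N
  have hD : ∀ g : G, g ∈ D → g⁻¹ * α g ∈ N := fun g hg => QuotientGroup.eq.mp (mem_fixPre.mp hg).symm
  -- the fixed cosets
  have h1 : Nat.card {g : G ⧸ N // qAut α N h g = g} * Nat.card N = Nat.card D := by
    let F := (Subgroup.map (QuotientGroup.mk' N) D)
    have hF : ∀ g : G ⧸ N, qAut α N h g = g ↔ g ∈ F := by
      intro g
      obtain ⟨x, rfl⟩ := QuotientGroup.mk_surjective g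
      constructor
      · intro hx
        exact ⟨x, mem_fixPre.mpr (by rwa [qAut_mk] at hx), rfl⟩
      · rintro ⟨y, hy, hyx⟩
        rw [show ((x : G) : G ⧸ N) = (y : G) from hyx.symm, qAut_mk]
        exact mem_fixPre.mp hy
    rw [Nat.card_congr (Equiv.subtypeEquivRight hF)]
    have h2 : Nat.card F = ((QuotientGroup.mk' N).comp D.subtype).ker.index := by
      rw [Subgroup.index_ker, MonoidHom.range_comp, Subgroup.range_subtype]
    rw [show Nat.card {g // g ∈ F} = Nat.card F from rfl, h2, ← MonoidHom.comap_ker, QuotientGroup.ker_mk']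
    have hND : N ≤ D := fun x hx => mem_fixPre.mpr (by
      rw [(QuotientGroup.eq_one_iff x).mpr hx, (QuotientGroup.eq_one_iff (α x)).mpr (Inv.mem h hx)])
    rw [show Nat.card N = Nat.card (N.comap D.subtype) from
      (Nat.card_congr (Subgroup.subgroupOfEquivOfLe hND).toEquiv).symm, mul_comm]
    exact Subgroup.card_mul_index _
  rw [h1]
  -- the fibres
  let φ : D → T := fun g => ⟨(g : G)⁻¹ * α g, hT g (hD g g.2)⟩
  have hsec : ∀ t : T, ∃ g0 : G, ∀ g : D, φ g = t → (g : G) * g0⁻¹ ∈ fixSub α := by
    intro t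
    by_cases ht : ∃ g : D, φ g = t
    · obtain ⟨g0, hg0⟩ := ht
      refine ⟨g0, fun g hg => ?_⟩
      have e : (g : G)⁻¹ * α g = (g0 : G)⁻¹ * α g0 := congrArg Subtype.val (hg.trans hg0.symm)
      rw [mem_fixSub, map_mul, map_inv]
      calc α g * (α g0)⁻¹ = g * ((g : G)⁻¹ * α g) * (α g0)⁻¹ := by group
        _ = g * ((g0 : G)⁻¹ * α g0) * (α g0)⁻¹ := by rw [e]
        _ = _ := by group
    · exact ⟨1, fun g hg => absurd ⟨g, hg⟩ ht⟩
  choose g0 hg0 using hsec
  refine (Nat.card_le_card_of_injective
    (fun g : D => ((⟨(g : G) * (g0 (φ g))⁻¹, hg0 _ g rfl⟩ : fixSub α), φ g)) ?_).trans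
    (le_of_eq (by rw [Nat.card_prod]; rfl))
  intro a b hab
  have e1 := congrArg Prod.snd hab
  have e2 : (a : G) * (g0 (φ a))⁻¹ = (b : G) * (g0 (φ b))⁻¹ :=
    congrArg (Subtype.val ∘ Prod.fst) hab
  simp only at e1
  rw [e1] at e2
  exact Subtype.ext (mul_right_cancel e2)

theorem card_fix_quotient_le (α : MulAut G) (N : Subgroup G) [N.Normal] (h : Inv α N) :
    Nat.card {g : G ⧸ N // qAut α N h g = g} ≤ Nat.card {g : G // α g = g} :=
  Nat.le_of_mul_le_mul_right (card_fix_quotient_mul α N h (N : Set G) fun _ hg => hg) Nat.card_pos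

theorem AutOK.sub {p m : ℕ} {α : MulAut G} (h : AutOK p m α) (N : Subgroup G) (hN : Inv α N) :
    AutOK p m (sAut α N hN) where
  pow := MulEquiv.ext fun x => Subtype.ext (by rw [sAut_pow, h.pow]; rfl)
  fix := le_trans (Nat.card_le_card_of_injective
    (fun g : {g : N // sAut α N hN g = g} => (⟨(g.1 : G), congrArg Subtype.val g.2⟩ : {g : G // α g = g}))
    fun a b hab => Subtype.ext (Subtype.ext (congrArg (fun z : {g : G // α g = g} => z.1) hab))) h.fix

theorem AutOK.quot {p m : ℕ} {α : MulAut G} (h : AutOK p m α) (N : Subgroup G) [N.Normal]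
    (hN : Inv α N) : AutOK p m (qAut α N hN) where
  pow := MulEquiv.ext fun x => by
    obtain ⟨x, rfl⟩ := QuotientGroup.mk_surjective x
    rw [qAut_pow, h.pow]; rfl
  fix := (card_fix_quotient_le α N hN).trans h.fix

/-- In a coprime action the quotient by a subgroup with fixed points has fewer fixed points. -/
theorem card_fix_quotient_lt {p : ℕ} [hp : Fact p.Prime] (α : MulAut G) (hα : α ^ p = 1)
    (hcop : ¬ p ∣ Nat.card G) (N : Subgroup G) [N.Normal] (h : Inv α N) {c : G} (hc : c ∈ N)
    (hc1 : c ≠ 1) (hcfix : α c = c) :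
    Nat.card {g : G ⧸ N // qAut α N h g = g} < Nat.card {g : G // α g = g} := by
  classical
  have hT : ∀ g : G, g⁻¹ * α g ∈ N → g⁻¹ * α g ∈ (N : Set G) \ {c} := by
    intro g hg
    refine ⟨hg, fun hgc => hc1 ?_⟩
    rw [Set.mem_singleton_iff] at hgc
    have hpow : ∀ k : ℕ, (α ^ k) g = g * c ^ k := by
      intro k
      induction k with
      | zero => simp
      | succ k ih =>
        rw [pow_succ', MulAut.mul_apply, ih, map_mul, map_pow, hcfix, pow_succ',
          show α g = g * c by rw [← hgc, mul_inv_cancel_left], mul_assoc]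
    have h1 : c ^ p = 1 := by
      have h2 := hpow p
      rw [hα, MulAut.one_apply] at h2
      exact mul_eq_left.mp h2.symm
    rcases (Nat.dvd_prime hp.out).mp (orderOf_dvd_of_pow_eq_one h1) with h2 | h2
    · exact orderOf_eq_one_iff.mp h2
    · exact absurd (h2 ▸ orderOf_dvd_natCard c) hcop
  have h1 := card_fix_quotient_mul α N h _ hT
  have h2 : Nat.card ((N : Set G) \ {c} : Set G) < Nat.card N := by
    rw [Nat.card_coe_set_eq, show Nat.card N = (N : Set G).ncard from Nat.card_coe_set_eq _,
      Set.ncard_sdiff_singleton_of_mem hc]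
    have : 0 < (N : Set G).ncard := (Set.ncard_pos (Set.toFinite _)).mpr ⟨1, N.one_mem⟩
    omega
  have hpos : 0 < Nat.card {g : G // α g = g} := Nat.card_pos_iff.mpr ⟨⟨⟨1, map_one α⟩⟩, inferInstance⟩
  exact Nat.lt_of_mul_lt_mul_right (lt_of_le_of_lt h1 (Nat.mul_lt_mul_of_pos_left h2 hpos))

omit [Finite G] in
theorem derived_add_le {H : Subgroup G} {a : ℕ} (h : derivedSeries G a ≤ H) (b : ℕ) :
    derivedSeries G (a + b) ≤ (derivedSeries ↥H b).map H.subtype := by
  induction b with
  | zero => rwa [derivedSeries_zero, ← MonoidHom.range_eq_map, Subgroup.range_subtype, Nat.add_zero]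
  | succ b IH =>
    rw [← Nat.add_assoc, derivedSeries_succ, derivedSeries_succ, Subgroup.map_commutator]
    exact Subgroup.commutator_mono IH IH

omit [Finite G] in
theorem derived_add_bot {H : Subgroup G} {a b : ℕ} (h : derivedSeries G a ≤ H)
    (hb : derivedSeries ↥H b = ⊥) : derivedSeries G (a + b) = ⊥ :=
  le_bot_iff.mp ((derived_add_le h b).trans (by rw [hb, Subgroup.map_bot]))

omit [Finite G] in
theorem derived_le_of_quotient {N : Subgroup G} [N.Normal] {a : ℕ}
    (h : derivedSeries (G ⧸ N) a = ⊥) : derivedSeries G a ≤ N := by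
  have := map_derivedSeries_eq (QuotientGroup.mk'_surjective N) a
  rw [h, Subgroup.map_eq_bot_iff, QuotientGroup.ker_mk'] at this
  exact this

omit [Finite G] in
theorem derived_le_mono {a b : ℕ} (hab : a ≤ b) (h : derivedSeries G a = ⊥) :
    derivedSeries G b = ⊥ :=
  le_bot_iff.mp (h ▸ derivedSeries_antitone (G := G) hab)

/-- A finite solvable group is killed by the derived series at its order. -/
theorem derived_card [Group.IsSolvable G] : derivedSeries G (Nat.card G) = ⊥ := by
  classical
  suffices key : ∀ k, derivedSeries G k = ⊥ ∨ Nat.card (derivedSeries G k) + k ≤ Nat.card G by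
    rcases key (Nat.card G) with h | h
    · exact h
    · have h0 : 0 < Nat.card (derivedSeries G (Nat.card G)) := Nat.card_pos
      omega
  intro k
  induction k with
  | zero => right; rw [derivedSeries_zero, Subgroup.card_top, add_zero]
  | succ k ih =>
    rcases ih with h | h
    · left; exact derived_le_mono (Nat.le_succ k) h
    · by_cases hb : derivedSeries G k = ⊥
      · left; exact derived_le_mono (Nat.le_succ k) hb
      right
      have hlt : derivedSeries G (k + 1) < derivedSeries G k := by
        rw [derivedSeries_succ]; exact Group.IsSolvable.commutator_lt_of_ne_bot hb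
      have : Nat.card (derivedSeries G (k + 1)) < Nat.card (derivedSeries G k) :=
        Nat.lt_of_le_of_ne (Subgroup.card_le_of_le hlt.le) fun e =>
          hlt.ne (Subgroup.eq_of_le_of_card_ge hlt.le e.ge)
      omega

end Cfsg.Agent.Grp.Alperin
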