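import Mathlib
import Cfsg.Agent.Lib.Grp.AssocLie

/-!
A Lie ring with an automorphism of prime order `p` whose fixed points are killed by `p ^ n` is, up
to a bounded power of `p`, nilpotent of bounded class.
-/

set_option autoImplicit false
set_option linter.unusedSectionVars false
set_option linter.style.haveILetI false

namespace Cfsg.Agent.Grp.Alperin

open scoped TensorProduct

universe u

/-- The class bound. -/
def hBd (p : ℕ) : ℕ := (∑ i ∈ Finset.range (2 ^ (p - 1) - 1), (p - 1) ^ i) + 2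

theorem hBd_two_le (p : ℕ) : 2 ≤ hBd p := Nat.le_add_left 2 _

/-- The lower central series of a Lie ring, as additive subgroups. -/
def lieLcs (L : Type u) [LieRing L] : ℕ → AddSubgroup L
  | 0 => ⊤
  | k + 1 => AddSubgroup.closure {z | ∃ x ∈ lieLcs L k, ∃ y : L, ⁅x, y⁆ = z}

open Kreknin in
theorem lie_bound {p : ℕ} [hp : Fact p.Prime] {L : Type u} [LieRing L] (ψ : L →+ L)
    (hψ : ∀ x y : L, ψ ⁅x, y⁆ = ⁅ψ x, ψ y⁆) (hψp : ∀ x : L, ψ^[p] x = x) (n : ℕ)
    (hfix : ∀ x : L, ψ x = x → p ^ n • x = 0) :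
    ∀ x ∈ lieLcs L (hBd p), p ^ ((hBd p + 1) * (n + 1)) • x = 0 := by
  classical
  obtain ⟨A', ω, d, b, i₀, hω, hb⟩ := AssocLie.exists_ring p
  set f := LinearMap.lTensor (↥A') ψ.toIntLinearMap with hf
  have t_add_lie : ∀ x y z : ↥A' ⊗[ℤ] L, ⁅x + y, z⁆ = ⁅x, z⁆ + ⁅y, z⁆ := fun x y z => add_lie x y z
  have t_lie_add : ∀ x y z : ↥A' ⊗[ℤ] L, ⁅x, y + z⁆ = ⁅x, y⁆ + ⁅x, z⁆ := fun x y z => lie_add x y z
  have t_zero_lie : ∀ x : ↥A' ⊗[ℤ] L, ⁅(0 : ↥A' ⊗[ℤ] L), x⁆ = 0 := fun x => zero_lie x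
  have t_lie_zero : ∀ x : ↥A' ⊗[ℤ] L, ⁅x, (0 : ↥A' ⊗[ℤ] L)⁆ = 0 := fun x => lie_zero x
  have t_nsmul_lie : ∀ (k : ℕ) (x y : ↥A' ⊗[ℤ] L), ⁅k • x, y⁆ = k • ⁅x, y⁆ := fun k x y => nsmul_lie x y k
  have t_lie_nsmul : ∀ (k : ℕ) (x y : ↥A' ⊗[ℤ] L), ⁅x, k • y⁆ = k • ⁅x, y⁆ := fun k x y => lie_nsmul x y k
  have t_smul_lie : ∀ (r : A') (x y : ↥A' ⊗[ℤ] L), ⁅r • x, y⁆ = r • ⁅x, y⁆ := fun r x y => smul_lie r x y
  have t_lie_smul : ∀ (r : A') (x y : ↥A' ⊗[ℤ] L), ⁅x, r • y⁆ = r • ⁅x, y⁆ := fun r x y => lie_smul r x y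
  have hflie : ∀ x y : ↥A' ⊗[ℤ] L, f ⁅x, y⁆ = ⁅f x, f y⁆ := by
    intro x y
    induction x using TensorProduct.induction_on with
    | zero => rw [t_zero_lie, map_zero, t_zero_lie]
    | add u v hu hv => rw [t_add_lie, map_add, map_add, t_add_lie, hu, hv]
    | tmul s u =>
      induction y using TensorProduct.induction_on with
      | zero => rw [t_lie_zero, map_zero, t_lie_zero]
      | add w v hw hv => rw [t_lie_add, map_add, map_add, t_lie_add, hw, hv]
      | tmul t v =>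
        simp only [hf, LieAlgebra.ExtendScalars.bracket_tmul, LinearMap.lTensor_tmul,
          AddMonoidHom.coe_toIntLinearMap, hψ]
  have hfsmul : ∀ (r : A') (x : ↥A' ⊗[ℤ] L), f (r • x) = r • f x := by
    intro r x
    induction x using TensorProduct.induction_on with
    | zero => simp
    | tmul s v => rw [hf, TensorProduct.smul_tmul', LinearMap.lTensor_tmul, LinearMap.lTensor_tmul,
        TensorProduct.smul_tmul']
    | add u v hu hv => simp only [smul_add, map_add, hu, hv]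
  -- eigenspaces
  let E : ZMod p → AddSubgroup (↥A' ⊗[ℤ] L) := fun i =>
    { carrier := {z | f z = ω ^ i.val • z}
      zero_mem' := by simp
      add_mem' := fun {x y} (hx : f x = _) (hy : f y = _) => by
        show f (x + y) = _; rw [map_add, smul_add, hx, hy]
      neg_mem' := fun {x} (hx : f x = _) => by
        show f (-x) = _; rw [map_neg, smul_neg, hx] }
  let H : ZMod p → AddSubgroup (↥A' ⊗[ℤ] L) := fun i =>
    (E i).map (nsmulAddMonoidHom (p ^ n))
  have hωpow : ∀ k : ℕ, ω ^ (k : ZMod p).val = ω ^ k := fun k => by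
    rw [ZMod.val_natCast, ← pow_eq_pow_mod k hω.pow_eq_one]
  have hωadd : ∀ i j : ZMod p, ω ^ (i + j).val = ω ^ i.val * ω ^ j.val := fun i j => by
    rw [← pow_add, ← hωpow (i.val + j.val), Nat.cast_add, ZMod.natCast_val, ZMod.natCast_val,
      ZMod.cast_id, ZMod.cast_id]
  have hcl : Closed H := by
    rintro i j _ ⟨x, (hx : f x = _), rfl⟩ _ ⟨y, (hy : f y = _), rfl⟩
    refine ⟨p ^ n • ⁅x, y⁆, ?_, ?_⟩
    · show f (p ^ n • ⁅x, y⁆) = _
      rw [map_nsmul, hflie, hx, hy, t_smul_lie, t_lie_smul, smul_smul, ← hωadd, smul_comm]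
    · show p ^ n • (p ^ n • ⁅x, y⁆) = ⁅p ^ n • x, p ^ n • y⁆
      rw [t_nsmul_lie, t_lie_nsmul]
  have h0 : H 0 = ⊥ := by
    refine le_bot_iff.mp ?_
    rintro _ ⟨z, (hz : f z = _), rfl⟩
    rw [ZMod.val_zero, pow_zero, one_smul] at hz
    rw [AddSubgroup.mem_bot]
    show p ^ n • z = 0
    refine (TensorProduct.equivFinsuppOfBasisLeft b).injective (Finsupp.ext fun i => ?_)
    rw [map_zero, Finsupp.coe_zero, Pi.zero_apply, map_nsmul, Finsupp.smul_apply]
    refine hfix _ ?_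
    have key : ∀ w : ↥A' ⊗[ℤ] L,
        TensorProduct.equivFinsuppOfBasisLeft b (f w) i =
          ψ (TensorProduct.equivFinsuppOfBasisLeft b w i) := by
      intro w
      induction w using TensorProduct.induction_on with
      | zero => simp
      | tmul r x => simp [hf, map_zsmul]
      | add u v hu hv => simp [map_add, hu, hv]
    rw [← key, hz]
  have hglw : ∀ k, glw H (hBd p) k = ⊥ := fun k =>
    le_bot_iff.mp ((glw_antitone hcl (show _ ≤ hBd p from Nat.le_add_right _ 2) k).trans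
      (glw_eq_bot h0 hcl k).le)
  -- eigenvector decomposition
  let π : ZMod p → L → ↥A' ⊗[ℤ] L := fun i x =>
    ∑ k : ZMod p, (ω ^ (-(i * k)).val) ⊗ₜ[ℤ] (ψ^[k.val] x)
  have hψk : ∀ (k : ZMod p) (x : L), ψ (ψ^[k.val] x) = ψ^[(k + 1).val] x := by
    intro k x
    rw [← Function.iterate_succ_apply' (f := ⇑ψ)]
    rcases lt_or_ge (k.val + 1) p with hlt | hge
    · rw [show (k + 1).val = k.val + 1 by
        rw [ZMod.val_add, ZMod.val_one, Nat.mod_eq_of_lt hlt]]
    · have he : k.val + 1 = p := le_antisymm (ZMod.val_lt k) hge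
      rw [show (k + 1).val = 0 by rw [ZMod.val_add, ZMod.val_one, he, Nat.mod_self]]
      show ψ^[k.val + 1] x = _
      rw [he, hψp]
      rfl
  have hπ : ∀ i x, π i x ∈ E i := by
    intro i x
    show f (π i x) = _
    simp only [π, map_sum, Finset.smul_sum]
    have e : ∀ k : ZMod p, f ((ω ^ (-(i * k)).val) ⊗ₜ[ℤ] (ψ^[k.val] x)) =
        ω ^ i.val • ((ω ^ (-(i * (k + 1))).val) ⊗ₜ[ℤ] (ψ^[(k + 1).val] x)) := by
      intro k
      rw [hf, LinearMap.lTensor_tmul, TensorProduct.smul_tmul', smul_eq_mul, ← hωadd,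
        show i + -(i * (k + 1)) = -(i * k) by ring, AddMonoidHom.coe_toIntLinearMap, hψk]
    rw [Finset.sum_congr rfl fun k _ => e k]
    exact Fintype.sum_equiv (Equiv.addRight (1 : ZMod p)) _
      (fun k => ω ^ i.val • ((ω ^ (-(i * k)).val) ⊗ₜ[ℤ] (ψ^[k.val] x))) fun k => rfl
  have hsum : ∀ x, ∑ i : ZMod p, π i x = p • ((1 : A') ⊗ₜ[ℤ] x) := by
    intro x
    simp only [π]
    rw [Finset.sum_comm]
    simp_rw [← TensorProduct.sum_tmul]
    rw [Finset.sum_eq_single 0 (fun k _ hk => ?_) (fun h => absurd (Finset.mem_univ _) h)]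
    · simp [TensorProduct.smul_tmul']
    · have h1 : ∑ i : ZMod p, ω ^ (-(i * k)).val = ∑ i : ZMod p, ω ^ i.val := by
        refine Fintype.sum_equiv (Equiv.mulRight₀ (-k) (neg_ne_zero.mpr hk)) _ _ fun i => ?_
        simp [mul_neg]
      have h2 : ∑ i : ZMod p, ω ^ i.val = 0 := by
        rw [← hω.geom_sum_eq_zero hp.out.one_lt]
        refine Finset.sum_bij (fun i _ => i.val) (fun i _ => Finset.mem_range.mpr (ZMod.val_lt i))
          (fun i _ j _ h => ZMod.val_injective p h) (fun k hk' => ⟨(k : ZMod p), Finset.mem_univ _,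
            ZMod.val_cast_of_lt (Finset.mem_range.mp hk')⟩) fun i _ => rfl
      rw [h1, h2, TensorProduct.zero_tmul]
  set D : ℕ → AddSubgroup (↥A' ⊗[ℤ] L) := fun k => ⨆ i, glw H k i
  have hbase : ∀ x : L, p ^ (n + 1) • ((1 : A') ⊗ₜ[ℤ] x) ∈ D 0 := fun x => by
    rw [pow_succ, mul_smul, ← hsum, Finset.smul_sum]
    exact sum_mem fun i _ => AddSubgroup.mem_iSup_of_mem (S := fun k => glw H 0 k) i
      ⟨π i x, hπ i x, rfl⟩
  have hDlie : ∀ k, ∀ u ∈ D k, ∀ v ∈ D 0, ⁅u, v⁆ ∈ D (k + 1) := by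
    intro k u hu v hv
    refine AddSubgroup.iSup_induction (fun i => glw H k i) (C := fun u => ⁅u, v⁆ ∈ D (k + 1)) hu
      (fun i u hu => ?_) (by rw [t_zero_lie]; exact zero_mem _)
      (fun a b ha hb => by rw [t_add_lie]; exact add_mem ha hb)
    refine AddSubgroup.iSup_induction (fun i => glw H 0 i) (C := fun v => ⁅u, v⁆ ∈ D (k + 1)) hv
      (fun k' v hv => AddSubgroup.mem_iSup_of_mem (i + k') (lie_mem_gbrk hu hv))
      (by rw [t_lie_zero]; exact zero_mem _)
      (fun a b ha hb => by rw [t_lie_add]; exact add_mem ha hb)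
  have hall : ∀ k, ∀ x ∈ lieLcs L k, p ^ ((k + 1) * (n + 1)) • ((1 : A') ⊗ₜ[ℤ] x) ∈ D k := by
    intro k
    induction k with
    | zero => intro x _; rw [zero_add, one_mul]; exact hbase x
    | succ k ih =>
      intro z hz
      induction hz using AddSubgroup.closure_induction with
      | zero => rw [TensorProduct.tmul_zero, smul_zero]; exact zero_mem _
      | add a b _ _ ha hb => rw [TensorProduct.tmul_add, smul_add]; exact add_mem ha hb
      | neg a _ ha => rw [TensorProduct.tmul_neg, smul_neg]; exact neg_mem ha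
      | mem w hw =>
        obtain ⟨x, hx, y, rfl⟩ := hw
        have := hDlie k _ (ih x hx) _ (hbase y)
        rwa [t_nsmul_lie, t_lie_nsmul, smul_smul, LieAlgebra.ExtendScalars.bracket_tmul, one_mul,
          ← pow_add, show (k + 1) * (n + 1) + (n + 1) = (k + 1 + 1) * (n + 1) by ring] at this
  intro x hx
  have h1 := hall _ x hx
  rw [show D (hBd p) = ⊥ from iSup_eq_bot.mpr hglw, AddSubgroup.mem_bot] at h1
  have h2 := congrArg (fun z => TensorProduct.equivFinsuppOfBasisLeft b z i₀) h1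
  simp only [map_nsmul, map_zero, Finsupp.coe_smul, Pi.smul_apply, Finsupp.coe_zero, Pi.zero_apply,
    TensorProduct.equivFinsuppOfBasisLeft_apply_tmul_apply] at h2
  rw [← hb, Module.Basis.repr_self, Finsupp.single_eq_same, one_smul] at h2
  exact h2

end Cfsg.Agent.Grp.Alperin
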