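import Mathlib
import Cfsg.Agent.Lib.Grp.AlperinDL.Basic

/-!
The order of an abelian group of exponent dividing `p ^ 2` with an automorphism of order dividing `p`
is bounded by the number of fixed points.
-/

set_option autoImplicit false
set_option linter.unusedSectionVars false
set_option linter.style.haveILetI false

namespace Cfsg.Agent.Grp.Alperin

universe u

/-- The bound for exponent `p`. -/
theorem card_elem_le {O : Type u} [CommGroup O] [Finite O] {p m : ℕ} [hp : Fact p.Prime]
    (hexp : ∀ x : O, x ^ p = 1) {α : MulAut O} (hα : AutOK p m α) : Nat.card O ≤ m ^ p := by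
  classical
  have hz : ∀ v : Additive O, p • v = 0 := fun v => congrArg Additive.ofMul (hexp (Additive.toMul v))
  let _ : Module (ZMod p) (Additive O) := AddCommGroup.zmodModule (n := p) (G := Additive O) hz
  let F : Module.End (ZMod p) (Additive O) := (MonoidHom.toAdditive α.toMonoidHom).toZModLinearMap p
  have hF : ∀ k : ℕ, ∀ v : Additive O, Additive.toMul ((F ^ k) v) = (α ^ k) (Additive.toMul v) := by
    intro k
    induction k with
    | zero => intro v; rfl
    | succ k ih =>
      intro v
      rw [pow_succ', Module.End.mul_apply, pow_succ', MulAut.mul_apply, ← ih]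
      rfl
  have hFp : F ^ p = 1 := by
    refine LinearMap.ext fun v => Additive.toMul.injective ?_
    rw [hF, hα.pow]
    rfl
  have hnil : (F - 1) ^ p = 0 := by
    by_cases hM : Subsingleton (Additive O)
    · exact Subsingleton.elim _ _
    · have : Nontrivial (Additive O) := not_subsingleton_iff_nontrivial.mp hM
      haveI : CharP (Module.End (ZMod p) (Additive O)) p :=
        charP_of_injective_algebraMap
          (algebraMap (ZMod p) (Module.End (ZMod p) (Additive O))).injective p
      rw [sub_pow_char_of_commute p (Commute.one_right F), hFp, one_pow, sub_self]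
  have hker : ∀ k : ℕ, Nat.card (LinearMap.ker ((F - 1) ^ k)) ≤ m ^ k := by
    intro k
    induction k with
    | zero =>
      have : LinearMap.ker ((F - 1) ^ 0) = ⊥ := by rw [pow_zero]; exact LinearMap.ker_id
      rw [this]; simp
    | succ k ih =>
      set L := LinearMap.ker ((F - 1) ^ (k + 1))
      let φ : L →ₗ[ZMod p] LinearMap.ker ((F - 1) ^ k) :=
        ((F - 1).comp L.subtype).codRestrict _ fun v => by
          rw [LinearMap.mem_ker, LinearMap.comp_apply, ← Module.End.mul_apply, ← pow_succ]
          exact v.2
      rw [pow_succ', Submodule.card_eq_card_quotient_mul_card (LinearMap.ker φ)]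
      refine Nat.mul_le_mul ?_ ((Nat.card_le_card_of_injective _ φ.quotKerEquivRange.injective).trans
        ((Nat.card_le_card_of_injective _ Subtype.val_injective).trans ih))
      refine le_trans (Nat.card_le_card_of_injective
        (fun v : LinearMap.ker φ =>
          (⟨Additive.toMul ((v : L) : Additive O), ?_⟩ : {g : O // α g = g})) ?_) hα.fix
      · have h1 : (F - 1) ((v : L) : Additive O) = 0 := congrArg Subtype.val (LinearMap.mem_ker.mp v.2)
        rw [LinearMap.sub_apply, sub_eq_zero, Module.End.one_apply] at h1
        exact congrArg Additive.toMul h1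
      · intro a b h
        exact Subtype.ext (Subtype.ext (Additive.toMul.injective
          (congrArg (fun z : {g : O // α g = g} => z.1) h)))
  have := hker p
  rw [hnil, LinearMap.ker_zero, Nat.card_congr Submodule.topEquiv.toEquiv] at this
  exact this

/-- The bound for exponent `p ^ 2`. -/
theorem card_abelian_le {A : Type u} [Group A] [Finite A] {p m : ℕ} [hp : Fact p.Prime]
    (hcomm : ∀ x y : A, x * y = y * x) (hexp : ∀ x : A, x ^ p ^ 2 = 1) {α : MulAut A}
    (hα : AutOK p m α) : Nat.card A ≤ m ^ (2 * p) := by
  letI : CommGroup A := { (inferInstance : Group A) with mul_comm := hcomm }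
  set f : A →* A := powMonoidHom p
  have hinv : Inv α f.ker := inv_of_le fun x hx => by
    rw [MonoidHom.mem_ker] at hx ⊢
    show α x ^ p = 1
    rw [← map_pow, show x ^ p = 1 from hx, map_one]
  have hO : Nat.card f.ker ≤ m ^ p :=
    card_elem_le (fun x : f.ker => Subtype.ext x.2) (hα.sub _ hinv)
  have hR : Nat.card f.range ≤ Nat.card f.ker := by
    refine Subgroup.card_le_of_le ?_
    rintro _ ⟨x, rfl⟩
    show (x ^ p) ^ p = 1
    rw [← pow_mul, ← pow_two]
    exact hexp x
  rw [← f.ker.card_mul_index, Subgroup.index_ker, two_mul, pow_add]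
  exact Nat.mul_le_mul hO (hR.trans hO)

end Cfsg.Agent.Grp.Alperin
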