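import Mathlib
import Cfsg.Agent.Lib.Grp.Frattini

/-!
Strongly powerful `p`-groups: `⁅N, G⁆ ≤ (N^p)^p`. The power filtration, its commutator depth and
the interchange of powers with commutators.
-/

set_option autoImplicit false
set_option linter.unusedSectionVars false
set_option linter.style.haveILetI false

namespace Cfsg.Agent.Grp.Alperin

open Subgroup
open scoped commutatorElement

variable {G : Type*} [Group G] {p : ℕ}

/-- The subgroup generated by the `p`-th powers of a subgroup. -/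
def pw (p : ℕ) (N : Subgroup G) : Subgroup G :=
  Subgroup.closure ((fun x => x ^ p) '' (N : Set G))

theorem pow_mem_pw {N : Subgroup G} {x : G} (hx : x ∈ N) : x ^ p ∈ pw p N :=
  Subgroup.subset_closure ⟨x, hx, rfl⟩

theorem pw_le {N K : Subgroup G} (h : ∀ x ∈ N, x ^ p ∈ K) : pw p N ≤ K :=
  (Subgroup.closure_le K).mpr (by rintro _ ⟨x, hx, rfl⟩; exact h x hx)

theorem pw_le_self (N : Subgroup G) : pw p N ≤ N := pw_le fun _ hx => N.pow_mem hx p

theorem pw_mono {M N : Subgroup G} (h : M ≤ N) : pw p M ≤ pw p N :=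
  pw_le fun _ hx => pow_mem_pw (h hx)

theorem map_pw {H : Type*} [Group H] (f : G →* H) (N : Subgroup G) :
    (pw p N).map f = pw p (N.map f) := by
  rw [pw, pw, MonoidHom.map_closure]
  congr 1
  ext y
  constructor
  · rintro ⟨_, ⟨x, hx, rfl⟩, rfl⟩
    exact ⟨f x, Subgroup.mem_map_of_mem f hx, (map_pow f x p).symm⟩
  · rintro ⟨_, ⟨x, hx, rfl⟩, rfl⟩
    exact ⟨x ^ p, ⟨x, hx, rfl⟩, map_pow f x p⟩

instance pw_normal (N : Subgroup G) [hN : N.Normal] : (pw p N).Normal := by
  refine ⟨fun y hy g => ?_⟩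
  induction hy using Subgroup.closure_induction with
  | mem z hz =>
    obtain ⟨x, hx, rfl⟩ := hz
    exact Subgroup.subset_closure ⟨g * x * g⁻¹, hN.conj_mem x hx g, conj_pow⟩
  | one => simp
  | mul a b _ _ ha hb => rw [← conj_mul]; exact Subgroup.mul_mem _ ha hb
  | inv a _ ha => rw [← conj_inv]; exact Subgroup.inv_mem _ ha

/-- The commutator with everything lies in the second power subgroup. -/
def SE (p : ℕ) (N : Subgroup G) : Prop := ⁅N, (⊤ : Subgroup G)⁆ ≤ pw p (pw p N)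

theorem map_SE {H : Type*} [Group H] (f : G →* H) (hf : Function.Surjective f) {N : Subgroup G}
    (h : SE p N) : SE p (N.map f) := by
  have h1 := Subgroup.map_mono (f := f) h
  rwa [Subgroup.map_commutator, map_pw, map_pw, Subgroup.map_top_of_surjective f hf] at h1

/-! ### Commutator identities -/

theorem comm_mul_left (x y g : G) : ⁅x * y, g⁆ = x * ⁅y, g⁆ * x⁻¹ * ⁅x, g⁆ := by
  simp only [commutatorElement_def]; group

theorem comm_mul_right (x y g : G) : ⁅g, x * y⁆ = ⁅g, x⁆ * (x * ⁅g, y⁆ * x⁻¹) := by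
  simp only [commutatorElement_def]; group

theorem comm_pow_left_of_commute {x g : G} (h : Commute x ⁅x, g⁆) (n : ℕ) :
    ⁅x ^ n, g⁆ = ⁅x, g⁆ ^ n := by
  induction n with
  | zero => simp
  | succ n ih =>
    rw [pow_succ', comm_mul_left, ih, (h.pow_right n).eq, mul_inv_cancel_right, pow_succ]

theorem comm_pow_left {x g e : G} (he : ⁅x, ⁅x, g⁆⁆ = e) (hx : Commute x e)
    (hc : Commute ⁅x, g⁆ e) (n : ℕ) : ⁅x ^ n, g⁆ = ⁅x, g⁆ ^ n * e ^ n.choose 2 := by
  set c := ⁅x, g⁆ with hc0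
  have h1 : x * c * x⁻¹ = e * c := by
    rw [← he]; simp only [commutatorElement_def]; group
  induction n with
  | zero => simp
  | succ n ih =>
    have h2 : x * (c ^ n * e ^ n.choose 2) * x⁻¹ = c ^ n * e ^ (n + n.choose 2) := by
      rw [← conj_mul, ← conj_pow, h1, (hc.symm).mul_pow, (hx.pow_right _).eq, mul_inv_cancel_right,
        ((hc.pow_pow n n).symm).eq, mul_assoc, ← pow_add]
    rw [pow_succ', comm_mul_left, ih, h2, Nat.choose_succ_succ' n 1, Nat.choose_one_right,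
      mul_assoc, ((hc.pow_right (n + n.choose 2)).symm).eq, ← mul_assoc, ← pow_succ]

theorem comm_pow_right_of_commute {x g : G} (h : Commute x ⁅g, x⁆) (n : ℕ) :
    ⁅g, x ^ n⁆ = ⁅g, x⁆ ^ n := by
  induction n with
  | zero => simp
  | succ n ih =>
    rw [pow_succ, comm_mul_right, ih, (h.pow_left n).eq, mul_inv_cancel_right, pow_succ]

/-- Commutators of a generating set against a subgroup. -/
theorem commutator_closure_le {S : Set G} {N K : Subgroup G} [hK : K.Normal]
    (h : ∀ x ∈ S, ∀ y ∈ N, ⁅x, y⁆ ∈ K) : ⁅Subgroup.closure S, N⁆ ≤ K := by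
  rw [Subgroup.commutator_le]
  intro x hx y hy
  induction hx using Subgroup.closure_induction with
  | mem z hz => exact h z hz y hy
  | one => rw [commutatorElement_one_left]; exact K.one_mem
  | mul a b _ _ ha hb => rw [comm_mul_left]; exact K.mul_mem (hK.conj_mem _ hb a) ha
  | inv a _ ha =>
    have : ⁅a⁻¹, y⁆ = a⁻¹ * ⁅a, y⁆⁻¹ * a⁻¹⁻¹ := by simp only [commutatorElement_def]; group
    rw [this]
    exact hK.conj_mem _ (K.inv_mem ha) _

theorem pw_comm_le {M N K : Subgroup G} [K.Normal] (h : ∀ x ∈ M, ∀ y ∈ N, ⁅x ^ p, y⁆ ∈ K) :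
    ⁅pw p M, N⁆ ≤ K :=
  commutator_closure_le (by rintro _ ⟨x, hx, rfl⟩ y hy; exact h x hx y hy)

/-- A subgroup of the centre of exponent dividing `p` has trivial power subgroup. -/
theorem pow_eq_one_of_closure {S : Set G} (hS : ∀ s ∈ S, s ^ p = 1)
    (hc : ∀ s ∈ S, ∀ t ∈ S, Commute s t) : ∀ x ∈ Subgroup.closure S, x ^ p = 1 := by
  intro x hx
  letI := Subgroup.closureCommGroupOfComm (k := S) fun a ha b hb => hc a ha b hb
  have key : ∀ y : Subgroup.closure S, y ^ p = 1 := by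
    intro y
    obtain ⟨y, hy⟩ := y
    induction hy using Subgroup.closure_induction with
    | mem z hz => exact Subtype.ext (hS z hz)
    | one => exact one_pow p
    | mul a b ha hb iha ihb =>
      rw [show (⟨a * b, _⟩ : Subgroup.closure S) = ⟨a, ha⟩ * ⟨b, hb⟩ from rfl, mul_pow, iha, ihb,
        mul_one]
    | inv a ha iha =>
      rw [show (⟨a⁻¹, _⟩ : Subgroup.closure S) = (⟨a, ha⟩ : Subgroup.closure S)⁻¹ from rfl, inv_pow,
        iha, inv_one]
  exact congrArg Subtype.val (key ⟨x, hx⟩)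

section Finite

variable [Finite G] [hp : Fact p.Prime]

theorem le_of_le_sup_commutator (hG : IsPGroup p G) {A K : Subgroup G} [A.Normal] [K.Normal]
    (h : A ≤ K ⊔ ⁅A, (⊤ : Subgroup G)⁆) : A ≤ K := by
  haveI := hG.isNilpotent
  obtain ⟨n, hn⟩ := Subgroup.nilpotent_iff_lowerCentralSeries.mp (inferInstance : Group.IsNilpotent G)
  have key : ∀ k, A ≤ K ⊔ (⊤ : Subgroup G).lowerCentralSeries k := by
    intro k
    induction k with
    | zero => rw [Subgroup.lowerCentralSeries_zero]; exact le_top.trans le_sup_right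
    | succ k ih =>
      refine h.trans (sup_le le_sup_left ?_)
      refine (Subgroup.commutator_mono ih le_rfl).trans ?_
      set q := QuotientGroup.mk' (K ⊔ (⊤ : Subgroup G).lowerCentralSeries (k + 1))
      have : (⁅K ⊔ (⊤ : Subgroup G).lowerCentralSeries k, (⊤ : Subgroup G)⁆).map q = ⊥ := by
        rw [Subgroup.map_commutator, Subgroup.map_sup,
          (Subgroup.map_eq_bot_iff (f := q) K).mpr (by rw [QuotientGroup.ker_mk']; exact le_sup_left),
          bot_sup_eq, ← Subgroup.map_commutator, ← Subgroup.lowerCentralSeries_succ,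
          Subgroup.map_eq_bot_iff, QuotientGroup.ker_mk']
        exact le_sup_right
      rwa [Subgroup.map_eq_bot_iff, QuotientGroup.ker_mk'] at this
  have := key n
  rwa [hn, sup_bot_eq] at this

theorem eq_bot_of_le_pw (hG : IsPGroup p G) {X : Subgroup G} (h : X ≤ pw p X) : X = ⊥ := by
  by_contra hne
  haveI : Nontrivial X := (Subgroup.nontrivial_iff_ne_bot X).mpr hne
  have h1 : ∀ x : X, x ∈ frattini X := by
    intro x
    obtain ⟨y, hy, hyx⟩ : (x : G) ∈ (frattini X).map X.subtype :=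
      pw_le (K := (frattini X).map X.subtype) (fun z hz =>
        ⟨(⟨z, hz⟩ : X) ^ p, pGroup_pow_mem_frattini (hG.to_subgroup X) _, rfl⟩) (h x.2)
    exact Subtype.ext hyx ▸ hy
  have htop : frattini X = ⊤ := eq_top_iff.mpr fun x _ => h1 x
  exact bot_ne_top (frattini_nongenerating (K := (⊥ : Subgroup X)) (by rw [bot_sup_eq]; exact htop))

omit [Finite G] hp in
theorem le_iff_map_mk (A K : Subgroup G) [K.Normal] :
    A ≤ K ↔ A.map (QuotientGroup.mk' K) = ⊥ := by
  rw [Subgroup.map_eq_bot_iff, QuotientGroup.ker_mk']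

omit [Finite G] hp in
theorem pw_eq_bot_iff {N : Subgroup G} : pw p N = ⊥ ↔ ∀ x ∈ N, x ^ p = 1 :=
  ⟨fun h x hx => Subgroup.mem_bot.mp (h ▸ pow_mem_pw hx),
    fun h => le_bot_iff.mp (pw_le fun x hx => Subgroup.mem_bot.mpr (h x hx))⟩

omit [Finite G] hp in
theorem commutator_eq_bot_iff {M N : Subgroup G} :
    ⁅M, N⁆ = ⊥ ↔ ∀ x ∈ M, ∀ y ∈ N, Commute x y :=
  ⟨fun h x hx y hy => commutatorElement_eq_one_iff_mul_comm.mp
      (Subgroup.mem_bot.mp (h ▸ Subgroup.commutator_mem_commutator hx hy)),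
    fun h => le_bot_iff.mp (Subgroup.commutator_le.mpr fun x hx y hy =>
      Subgroup.mem_bot.mpr (commutatorElement_eq_one_iff_mul_comm.mpr (h x hx y hy)))⟩

/-- Reduction to the case of a trivial third power subgroup and a central commutator. -/
theorem SE_pw_aux (hG : IsPGroup p G) {N : Subgroup G} [N.Normal] (h : SE p N)
    (h3 : pw p (pw p (pw p N)) = ⊥) (hcen : ⁅⁅pw p N, (⊤ : Subgroup G)⁆, (⊤ : Subgroup G)⁆ = ⊥) :
    ⁅pw p N, (⊤ : Subgroup G)⁆ = ⊥ := by
  have hexp : ∀ c ∈ pw p (pw p N), c ^ p = 1 := pw_eq_bot_iff.mp h3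
  have hA : ⁅pw p N, (⊤ : Subgroup G)⁆ ≤ pw p (pw p N) :=
    (Subgroup.commutator_mono (pw_le_self N) le_rfl).trans h
  have hAc : ∀ c ∈ ⁅pw p N, (⊤ : Subgroup G)⁆, ∀ g : G, Commute c g := fun c hc g =>
    commutator_eq_bot_iff.mp hcen c hc g (Subgroup.mem_top g)
  have h2 : ⁅pw p (pw p N), (⊤ : Subgroup G)⁆ ≤ ⊥ := pw_comm_le fun z hz g _ => by
    have hc := Subgroup.commutator_mem_commutator hz (Subgroup.mem_top g)
    rw [Subgroup.mem_bot, comm_pow_left_of_commute ((hAc _ hc z).symm) p, hexp _ (hA hc)]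
  refine le_bot_iff.mp (pw_comm_le fun x hx g _ => ?_)
  have hc : ⁅x, g⁆ ∈ pw p (pw p N) := h (Subgroup.commutator_mem_commutator hx (Subgroup.mem_top g))
  rw [Subgroup.mem_bot, comm_pow_left_of_commute
    ((commutator_eq_bot_iff.mp (le_bot_iff.mp h2) _ hc x (Subgroup.mem_top x)).symm) p, hexp _ hc]

theorem SE_pw (hG : IsPGroup p G) {N : Subgroup G} [N.Normal] (h : SE p N) : SE p (pw p N) := by
  set A := ⁅pw p N, (⊤ : Subgroup G)⁆ with hA
  refine le_of_le_sup_commutator hG ?_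
  set K := pw p (pw p (pw p N)) ⊔ ⁅A, (⊤ : Subgroup G)⁆ with hK
  rw [le_iff_map_mk]
  set q := QuotientGroup.mk' K
  have hq : Function.Surjective q := QuotientGroup.mk'_surjective K
  have htop := Subgroup.map_top_of_surjective q hq
  rw [Subgroup.map_commutator, map_pw, htop]
  haveI : (N.map q).Normal := Subgroup.Normal.map inferInstance q hq
  refine SE_pw_aux (hG.to_quotient K) (map_SE q hq h) ?_ ?_
  · rw [← map_pw, ← map_pw, ← map_pw]
    exact (le_iff_map_mk _ K).mp le_sup_left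
  · rw [← map_pw, ← htop, ← Subgroup.map_commutator, ← Subgroup.map_commutator]
    exact (le_iff_map_mk _ K).mp le_sup_right

theorem SE_commutator_aux (hG : IsPGroup p G) {M : Subgroup G} [M.Normal] (h : SE p M)
    (h2 : pw p (pw p ⁅M, (⊤ : Subgroup G)⁆) = ⊥)
    (hcen : ⁅⁅⁅M, (⊤ : Subgroup G)⁆, (⊤ : Subgroup G)⁆, (⊤ : Subgroup G)⁆ = ⊥) :
    ⁅⁅M, (⊤ : Subgroup G)⁆, (⊤ : Subgroup G)⁆ = ⊥ := by
  set A := ⁅M, (⊤ : Subgroup G)⁆ with hA
  set T := ⁅A, (⊤ : Subgroup G)⁆ with hT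
  have hTc : ∀ c ∈ T, ∀ g : G, Commute c g := fun c hc g =>
    commutator_eq_bot_iff.mp hcen c hc g (Subgroup.mem_top g)
  have hexp : ∀ c ∈ pw p A, c ^ p = 1 := pw_eq_bot_iff.mp h2
  have hAT : ⁅pw p A, (⊤ : Subgroup G)⁆ ≤ pw p T := pw_comm_le fun a ha g _ => by
    have hc : ⁅a, g⁆ ∈ T := Subgroup.commutator_mem_commutator ha (Subgroup.mem_top g)
    rw [comm_pow_left_of_commute ((hTc _ hc a).symm) p]
    exact pow_mem_pw hc
  have hE1 : ⁅pw p M, (⊤ : Subgroup G)⁆ ≤ pw p A ⊔ T := pw_comm_le fun x hx g _ => by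
    have hc : ⁅x, g⁆ ∈ A := Subgroup.commutator_mem_commutator hx (Subgroup.mem_top g)
    have he : ⁅x, ⁅x, g⁆⁆ ∈ T := by
      rw [hT, Subgroup.commutator_comm]
      exact Subgroup.commutator_mem_commutator (Subgroup.mem_top x) hc
    rw [comm_pow_left rfl ((hTc _ he x).symm) ((hTc _ he _).symm) p]
    exact Subgroup.mul_mem_sup (pow_mem_pw hc) (T.pow_mem he _)
  have hE2 : ⁅pw p (pw p M), (⊤ : Subgroup G)⁆ ≤ pw p T := pw_comm_le fun z hz g _ => by
    have hd := hE1 (Subgroup.commutator_mem_commutator hz (Subgroup.mem_top g))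
    obtain ⟨u, hu, t, ht, hut⟩ := Subgroup.mem_sup_of_normal_right.mp hd
    have he : ⁅z, ⁅z, g⁆⁆ ∈ pw p T := by
      rw [← hut, comm_mul_right, (commutatorElement_eq_one_iff_mul_comm.mpr ((hTc t ht z).symm)),
        mul_one, mul_inv_cancel, mul_one]
      have h1 : ⁅z, u⁆ ∈ ⁅pw p A, (⊤ : Subgroup G)⁆ := by
        rw [Subgroup.commutator_comm]
        exact Subgroup.commutator_mem_commutator (Subgroup.mem_top z) hu
      exact hAT h1
    have heT : ⁅z, ⁅z, g⁆⁆ ∈ T := pw_le_self T he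
    rw [comm_pow_left rfl ((hTc _ heT z).symm) ((hTc _ heT _).symm) p]
    refine (pw p T).mul_mem ?_ ((pw p T).pow_mem he _)
    rw [← hut, ((hTc t ht u).symm).mul_pow, hexp u hu, one_mul]
    exact pow_mem_pw ht
  have hTle : T ≤ pw p T := (Subgroup.commutator_mono h le_rfl).trans hE2
  exact eq_bot_of_le_pw hG hTle

theorem SE_commutator (hG : IsPGroup p G) {M : Subgroup G} [M.Normal] (h : SE p M) :
    SE p ⁅M, (⊤ : Subgroup G)⁆ := by
  set A := ⁅M, (⊤ : Subgroup G)⁆ with hA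
  refine le_of_le_sup_commutator hG ?_
  set K := pw p (pw p A) ⊔ ⁅⁅A, (⊤ : Subgroup G)⁆, (⊤ : Subgroup G)⁆ with hK
  rw [le_iff_map_mk]
  set q := QuotientGroup.mk' K
  have hq : Function.Surjective q := QuotientGroup.mk'_surjective K
  have htop := Subgroup.map_top_of_surjective q hq
  rw [Subgroup.map_commutator, htop,
    show A.map q = ⁅M.map q, (⊤ : Subgroup (G ⧸ K))⁆ by rw [← htop, ← Subgroup.map_commutator]]
  haveI : (M.map q).Normal := Subgroup.Normal.map inferInstance q hq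
  refine SE_commutator_aux (hG.to_quotient K) (map_SE q hq h) ?_ ?_
  · rw [← htop, ← Subgroup.map_commutator, ← map_pw, ← map_pw]
    exact (le_iff_map_mk _ K).mp le_sup_left
  · rw [← htop, ← Subgroup.map_commutator, ← Subgroup.map_commutator, ← Subgroup.map_commutator]
    exact (le_iff_map_mk _ K).mp le_sup_right

/-- Powers move into a commutator with the whole group. -/
theorem pw_commutator_top (hG : IsPGroup p G) {M : Subgroup G} [M.Normal] (h : SE p M) :
    pw p ⁅M, (⊤ : Subgroup G)⁆ ≤ ⁅pw p M, (⊤ : Subgroup G)⁆ := by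
  set K := ⁅pw p M, (⊤ : Subgroup G)⁆ with hK
  rw [le_iff_map_mk]
  set q := QuotientGroup.mk' K
  have hq : Function.Surjective q := QuotientGroup.mk'_surjective K
  have htop := Subgroup.map_top_of_surjective q hq
  rw [map_pw, Subgroup.map_commutator, htop]
  have hM : SE p (M.map q) := map_SE q hq h
  have hcen : ⁅pw p (M.map q), (⊤ : Subgroup (G ⧸ K))⁆ = ⊥ := by
    rw [← map_pw, ← htop, ← Subgroup.map_commutator]
    exact (le_iff_map_mk _ K).mp le_rfl
  have hc : ∀ c ∈ pw p (M.map q), ∀ g, Commute c g := fun c hc g =>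
    commutator_eq_bot_iff.mp hcen c hc g (Subgroup.mem_top g)
  rw [pw_eq_bot_iff, Subgroup.commutator_def]
  refine pow_eq_one_of_closure ?_ ?_
  · rintro _ ⟨x, hx, g, -, rfl⟩
    have h1 : ⁅x, g⁆ ∈ pw p (M.map q) :=
      pw_le_self _ (hM (Subgroup.commutator_mem_commutator hx (Subgroup.mem_top g)))
    rw [← comm_pow_left_of_commute ((hc _ h1 x).symm) p,
      commutatorElement_eq_one_iff_mul_comm.mpr (hc _ (pow_mem_pw hx) g)]
  · rintro _ ⟨x, hx, g, -, rfl⟩ t -
    exact hc _ (pw_le_self _ (hM (Subgroup.commutator_mem_commutator hx (Subgroup.mem_top g)))) t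

theorem pw_commutator_right_aux (hG : IsPGroup p G) {M N : Subgroup G} [M.Normal] [N.Normal]
    (hM : SE p M) (hN : SE p N) (hMN : M ≤ N) (hK : ⁅M, pw p N⁆ = ⊥)
    (hX : ⁅pw p ⁅M, N⁆, (⊤ : Subgroup G)⁆ = ⊥) : pw p ⁅M, N⁆ = ⊥ := by
  set D := ⁅M, N⁆ with hD
  set X := pw p D with hXdef
  have hXc : ∀ c ∈ X, ∀ g : G, Commute c g := fun c hc g =>
    commutator_eq_bot_iff.mp hX c hc g (Subgroup.mem_top g)
  have hDN : D ≤ pw p N := (Subgroup.commutator_mono hMN le_top).trans (hN.trans (pw_le_self _))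
  have hMc : ∀ m ∈ M, ∀ z ∈ pw p N, Commute m z := commutator_eq_bot_iff.mp hK
  have hDM : D ≤ M := Subgroup.commutator_le_left M N
  have hDc : ∀ c ∈ D, ∀ d ∈ D, Commute c d := fun c hc d hd => hMc c (hDM hc) d (hDN hd)
  have hE : ⁅pw p M, N⁆ ≤ X := pw_comm_le fun u hu y hy => by
    have hc : ⁅u, y⁆ ∈ D := Subgroup.commutator_mem_commutator hu hy
    rw [comm_pow_left_of_commute (hMc u hu _ (hDN hc)) p]
    exact pow_mem_pw hc
  have hE2 : ⁅pw p (pw p M), N⁆ ≤ pw p X := pw_comm_le fun z hz y hy => by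
    have hc : ⁅z, y⁆ ∈ X := hE (Subgroup.commutator_mem_commutator hz hy)
    rw [comm_pow_left_of_commute ((hXc _ hc z).symm) p]
    exact pow_mem_pw hc
  refine eq_bot_of_le_pw hG ?_
  have hpow : ∀ c ∈ D, c ^ p ∈ pw p X := by
    intro c hc
    rw [hD, Subgroup.commutator_def] at hc
    letI := Subgroup.closureCommGroupOfComm (k := {g | ∃ g₁ ∈ M, ∃ g₂ ∈ N, ⁅g₁, g₂⁆ = g})
      (by rintro _ ⟨a, ha, b, hb, rfl⟩ _ ⟨a', ha', b', hb', rfl⟩
          exact hDc _ (Subgroup.commutator_mem_commutator ha hb) _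
            (Subgroup.commutator_mem_commutator ha' hb'))
    suffices key : ∀ y : Subgroup.closure {g | ∃ g₁ ∈ M, ∃ g₂ ∈ N, ⁅g₁, g₂⁆ = g},
        ((y ^ p : _) : G) ∈ pw p X from by simpa using key ⟨c, hc⟩
    intro y
    obtain ⟨y, hy⟩ := y
    induction hy using Subgroup.closure_induction with
    | mem z hz =>
      obtain ⟨x, hx, w, hw, rfl⟩ := hz
      show ⁅x, w⁆ ^ p ∈ pw p X
      have hd : ⁅w, x⁆ ∈ D := by
        rw [← commutatorElement_inv x w]
        exact D.inv_mem (Subgroup.commutator_mem_commutator hx hw)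
      have hd2 : ⁅w, x⁆ ∈ pw p (pw p M) := by
        rw [← commutatorElement_inv x w]
        exact Subgroup.inv_mem _ (hM (Subgroup.commutator_mem_commutator hx (Subgroup.mem_top w)))
      have he : ⁅w, ⁅w, x⁆⁆ ∈ pw p X := by
        rw [← commutatorElement_inv ⁅w, x⁆ w]
        exact Subgroup.inv_mem _ (hE2 (Subgroup.commutator_mem_commutator hd2 hw))
      have heX : ⁅w, ⁅w, x⁆⁆ ∈ X := pw_le_self X he
      have h1 : ⁅w ^ p, x⁆ = 1 :=
        commutatorElement_eq_one_iff_mul_comm.mpr (hMc x hx _ (pow_mem_pw hw)).symm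
      rw [comm_pow_left rfl ((hXc _ heX w).symm) ((hXc _ heX _).symm) p, mul_eq_one_iff_eq_inv] at h1
      rw [← commutatorElement_inv w x, inv_pow, h1, inv_inv]
      exact Subgroup.pow_mem _ he _
    | one => simp
    | mul a b ha hb iha ihb =>
      rw [show (⟨a * b, _⟩ : Subgroup.closure _) = ⟨a, ha⟩ * ⟨b, hb⟩ from rfl, mul_pow,
        Subgroup.coe_mul]
      exact Subgroup.mul_mem _ iha ihb
    | inv a ha iha =>
      rw [show (⟨a⁻¹, _⟩ : Subgroup.closure _) = (⟨a, ha⟩ : Subgroup.closure _)⁻¹ from rfl, inv_pow,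
        Subgroup.coe_inv]
      exact Subgroup.inv_mem _ iha
  exact pw_le hpow

/-- Powers move into the larger factor of a commutator. -/
theorem pw_commutator_right (hG : IsPGroup p G) {M N : Subgroup G} [M.Normal] [N.Normal]
    (hM : SE p M) (hN : SE p N) (hMN : M ≤ N) : pw p ⁅M, N⁆ ≤ ⁅M, pw p N⁆ := by
  refine le_of_le_sup_commutator hG ?_
  set K := ⁅M, pw p N⁆ ⊔ ⁅pw p ⁅M, N⁆, (⊤ : Subgroup G)⁆ with hK
  rw [le_iff_map_mk]
  set q := QuotientGroup.mk' K
  have hq : Function.Surjective q := QuotientGroup.mk'_surjective K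
  have htop := Subgroup.map_top_of_surjective q hq
  rw [map_pw, Subgroup.map_commutator]
  haveI : (M.map q).Normal := Subgroup.Normal.map inferInstance q hq
  haveI : (N.map q).Normal := Subgroup.Normal.map inferInstance q hq
  refine pw_commutator_right_aux (hG.to_quotient K) (map_SE q hq hM) (map_SE q hq hN)
    (Subgroup.map_mono hMN) ?_ ?_
  · rw [← map_pw, ← Subgroup.map_commutator]
    exact (le_iff_map_mk _ K).mp le_sup_left
  · rw [← htop, ← Subgroup.map_commutator, ← map_pw, ← Subgroup.map_commutator]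
    exact (le_iff_map_mk _ K).mp le_sup_right

end Finite

end Cfsg.Agent.Grp.Alperin
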