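import Mathlib
import Cfsg.Agent.Lib.Grp.AlperinDL.Powerful

/-!
The power series of a strongly powerful group: commutator depth, the power maps between its windows,
uniform groups.
-/

set_option autoImplicit false
set_option linter.unusedSectionVars false
set_option linter.style.haveILetI false

namespace Cfsg.Agent.Grp.Alperin

open Subgroup
open scoped commutatorElement

variable {G : Type*} [Group G] {p : ℕ}

/-- Iterated power subgroups. -/
def pwI (p : ℕ) : ℕ → Subgroup G → Subgroup G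
  | 0, N => N
  | n + 1, N => pw p (pwI p n N)

theorem pwI_add (m n : ℕ) (N : Subgroup G) : pwI p (m + n) N = pwI p m (pwI p n N) := by
  induction m with
  | zero => simp [pwI]
  | succ m ih => rw [Nat.succ_add]; show pw p _ = pw p _; rw [ih]

theorem pwI_mono (n : ℕ) {M N : Subgroup G} (h : M ≤ N) : pwI p n M ≤ pwI p n N := by
  induction n with
  | zero => exact h
  | succ n ih => exact pw_mono ih

theorem pwI_le_self (n : ℕ) (N : Subgroup G) : pwI p n N ≤ N := by
  induction n with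
  | zero => exact le_rfl
  | succ n ih => exact (pw_le_self _).trans ih

instance pwI_normal (n : ℕ) (N : Subgroup G) [N.Normal] : (pwI p n N).Normal := by
  induction n with
  | zero => exact inferInstanceAs N.Normal
  | succ n ih => exact @pw_normal G _ p _ ih

theorem map_pwI {H : Type*} [Group H] (f : G →* H) (n : ℕ) (N : Subgroup G) :
    (pwI p n N).map f = pwI p n (N.map f) := by
  induction n with
  | zero => rfl
  | succ n ih => show (pw p _).map f = pw p _; rw [map_pw, ih]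

theorem pow_pow_mem_pwI {N : Subgroup G} {x : G} (hx : x ∈ N) (n : ℕ) : x ^ p ^ n ∈ pwI p n N := by
  induction n with
  | zero => simpa [pwI] using hx
  | succ n ih =>
    rw [pow_succ, pow_mul]
    exact pow_mem_pw ih

variable (p G) in
/-- The power series. -/
def ser (i : ℕ) : Subgroup G := pwI p i (⊤ : Subgroup G)

instance ser_normal (i : ℕ) : (ser G p i).Normal := pwI_normal i ⊤

theorem ser_zero : ser G p 0 = ⊤ := rfl

theorem ser_succ (i : ℕ) : ser G p (i + 1) = pw p (ser G p i) := rfl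

theorem ser_antitone {i j : ℕ} (h : i ≤ j) : ser G p j ≤ ser G p i := by
  induction h with
  | refl => exact le_rfl
  | step _ ih => exact (pw_le_self _).trans ih

theorem pwI_ser (m i : ℕ) : pwI p m (ser G p i) = ser G p (m + i) := (pwI_add m i ⊤).symm

theorem pow_mem_ser {i : ℕ} {x : G} (hx : x ∈ ser G p i) : x ^ p ∈ ser G p (i + 1) := pow_mem_pw hx

theorem pow_pow_mem_ser {i : ℕ} {x : G} (hx : x ∈ ser G p i) (n : ℕ) :
    x ^ p ^ n ∈ ser G p (n + i) := pwI_ser (G := G) n i ▸ pow_pow_mem_pwI hx n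

/-- Congruence modulo a member of the series. -/
abbrev Eqv (K : Subgroup G) (x y : G) : Prop := x⁻¹ * y ∈ K

@[simp] theorem eqv_refl {K : Subgroup G} (x : G) : Eqv K x x := by simp [Eqv]

@[simp] theorem eqv_one_left {K : Subgroup G} (x : G) : Eqv K 1 x ↔ x ∈ K := by simp [Eqv]

theorem eqv_iff {K : Subgroup G} [K.Normal] {x y : G} :
    Eqv K x y ↔ QuotientGroup.mk' K x = QuotientGroup.mk' K y := QuotientGroup.eq.symm

variable [Finite G] [hp : Fact p.Prime]

theorem SE_pwI (hG : IsPGroup p G) {N : Subgroup G} [N.Normal] (h : SE p N) (n : ℕ) :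
    SE p (pwI p n N) := by
  induction n with
  | zero => exact h
  | succ n ih => exact SE_pw hG ih

theorem SE_ser (hG : IsPGroup p G) (h : SE p (⊤ : Subgroup G)) (i : ℕ) : SE p (ser G p i) :=
  SE_pwI hG h i

theorem ser_comm (hG : IsPGroup p G) (h : SE p (⊤ : Subgroup G)) :
    ∀ i j : ℕ, ⁅ser G p i, ser G p j⁆ ≤ ser G p (i + j + 2) := by
  intro i
  induction i with
  | zero =>
    intro j
    rw [ser_zero, Subgroup.commutator_comm, show 0 + j + 2 = j + 1 + 1 by omega]
    exact SE_ser hG h j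
  | succ i ih =>
    intro j
    rw [ser_succ]
    refine pw_comm_le fun x hx y hy => ?_
    set K := ser G p (i + 1 + j + 2)
    have hc : ⁅x, y⁆ ∈ ser G p (i + j + 2) := ih j (Subgroup.commutator_mem_commutator hx hy)
    have hxc : ⁅x, ⁅x, y⁆⁆ ∈ K :=
      ser_antitone (by omega) (ih (i + j + 2) (Subgroup.commutator_mem_commutator hx hc))
    have hcp : ⁅x, y⁆ ^ p ∈ K := by
      have := pow_mem_ser hc
      rwa [show i + j + 2 + 1 = i + 1 + j + 2 by omega] at this
    rw [← QuotientGroup.eq_one_iff] at hxc hcp ⊢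
    have hmap : ∀ a b : G, QuotientGroup.mk' K ⁅a, b⁆ = ⁅QuotientGroup.mk' K a, QuotientGroup.mk' K b⁆ :=
      fun a b => map_commutatorElement _ a b
    show QuotientGroup.mk' K ⁅x ^ p, y⁆ = 1
    have hcom : Commute (QuotientGroup.mk' K x) ⁅QuotientGroup.mk' K x, QuotientGroup.mk' K y⁆ := by
      rw [← hmap]
      refine commutatorElement_eq_one_iff_mul_comm.mp ?_
      rw [← hmap]; exact hxc
    rw [hmap, map_pow, comm_pow_left_of_commute hcom p, ← hmap, ← map_pow]
    exact hcp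

theorem comm_mem_ser (hG : IsPGroup p G) (h : SE p (⊤ : Subgroup G)) {i j : ℕ} {x y : G}
    (hx : x ∈ ser G p i) (hy : y ∈ ser G p j) : ⁅x, y⁆ ∈ ser G p (i + j + 2) :=
  ser_comm hG h i j (Subgroup.commutator_mem_commutator hx hy)

/-- The power map is multiplicative on a window. -/
theorem pow_mul_eqv (hG : IsPGroup p G) (h : SE p (⊤ : Subgroup G)) {a l : ℕ} (hl : l ≤ 2 * a + 2)
    {x y : G} (hx : x ∈ ser G p a) (hy : y ∈ ser G p a) :
    Eqv (ser G p l) ((x * y) ^ p) (x ^ p * y ^ p) := by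
  rw [eqv_iff]
  have hc : QuotientGroup.mk' (ser G p l) ⁅x, y⁆ = 1 :=
    (QuotientGroup.eq_one_iff _).mpr (ser_antitone (by omega) (comm_mem_ser hG h hx hy))
  rw [map_commutatorElement, commutatorElement_eq_one_iff_mul_comm] at hc
  rw [map_pow, map_mul, map_mul, map_pow, map_pow]
  exact Commute.mul_pow hc p

theorem pow_eqv (hG : IsPGroup p G) (h : SE p (⊤ : Subgroup G)) {a l : ℕ} (ha : a ≤ l)
    (hl : l + 1 ≤ 2 * a + 2) {x y : G} (hx : x ∈ ser G p a) (he : Eqv (ser G p l) x y) :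
    Eqv (ser G p (l + 1)) (x ^ p) (y ^ p) := by
  have h1 := pow_mul_eqv hG h hl hx (ser_antitone ha he)
  rw [mul_inv_cancel_left] at h1
  rw [eqv_iff] at h1 ⊢
  rw [h1, map_mul, (QuotientGroup.eq_one_iff ((x⁻¹ * y) ^ p)).mpr (pow_mem_ser he) |> fun e =>
    (show QuotientGroup.mk' (ser G p (l + 1)) ((x⁻¹ * y) ^ p) = 1 from e), mul_one]

theorem pow_pow_eqv (hG : IsPGroup p G) (h : SE p (⊤ : Subgroup G)) :
    ∀ (t : ℕ) {a l : ℕ}, a ≤ l → l + 1 ≤ 2 * a + 2 → ∀ {x y : G}, x ∈ ser G p a →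
      Eqv (ser G p l) x y → Eqv (ser G p (t + l)) (x ^ p ^ t) (y ^ p ^ t) := by
  intro t
  induction t with
  | zero => intro a l _ _ x y _ he; simpa using he
  | succ t ih =>
    intro a l ha hl x y hx he
    have h1 := pow_eqv hG h (a := t + a) (l := t + l) (by omega) (by omega)
      (pow_pow_mem_ser hx t) (ih ha hl hx he)
    rwa [← pow_mul, ← pow_mul, ← pow_succ, show t + l + 1 = t + 1 + l by omega] at h1

theorem pow_pow_mul_eqv (hG : IsPGroup p G) (h : SE p (⊤ : Subgroup G)) :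
    ∀ (t : ℕ) {a l : ℕ}, l + 1 ≤ 2 * a + 2 → ∀ {x y : G}, x ∈ ser G p a → y ∈ ser G p a →
      Eqv (ser G p (t + l)) ((x * y) ^ p ^ t) (x ^ p ^ t * y ^ p ^ t) := by
  intro t
  induction t with
  | zero => intro a l _ x y _ _; simp
  | succ t ih =>
    intro a l hl x y hx hy
    by_cases hal : a ≤ l
    · have h1 := pow_eqv hG h (a := t + a) (l := t + l) (by omega) (by omega)
        (pow_pow_mem_ser ((ser G p a).mul_mem hx hy) t) (ih hl hx hy)
      have h2 := pow_mul_eqv hG h (a := t + a) (l := t + l + 1) (by omega)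
        (pow_pow_mem_ser hx t) (pow_pow_mem_ser hy t)
      rw [← pow_mul, ← pow_succ] at h1
      rw [← pow_mul, ← pow_succ, ← pow_mul, ← pow_succ] at h2
      rw [show t + 1 + l = t + l + 1 by omega]
      rw [eqv_iff] at h1 h2 ⊢
      exact h1.trans h2
    · have hle : ∀ {z : G}, z ∈ ser G p a → z ^ p ^ (t + 1) ∈ ser G p (t + 1 + l) := fun hz =>
        ser_antitone (by omega) (pow_pow_mem_ser hz (t + 1))
      exact Subgroup.mul_mem _ (Subgroup.inv_mem _ (hle ((ser G p a).mul_mem hx hy)))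
        (Subgroup.mul_mem _ (hle hx) (hle hy))

theorem exists_pow_succ (hG : IsPGroup p G) (h : SE p (⊤ : Subgroup G)) {a : ℕ} {y : G}
    (hy : y ∈ ser G p (a + 1)) : ∃ x ∈ ser G p a, Eqv (ser G p (a + 2)) (x ^ p) y := by
  change y ∈ Subgroup.closure _ at hy
  induction hy using Subgroup.closure_induction with
  | mem z hz => obtain ⟨x, hx, rfl⟩ := hz; exact ⟨x, hx, by simp⟩
  | one => exact ⟨1, one_mem _, by simp⟩
  | mul u v _ _ hu hv =>
    obtain ⟨x, hx, hxu⟩ := hu
    obtain ⟨z, hz, hzv⟩ := hv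
    refine ⟨x * z, mul_mem hx hz, ?_⟩
    have h1 := pow_mul_eqv hG h (l := a + 2) (by omega) hx hz
    rw [eqv_iff] at h1 hxu hzv ⊢
    rw [h1, map_mul, map_mul, hxu, hzv]
  | inv u _ hu =>
    obtain ⟨x, hx, hxu⟩ := hu
    refine ⟨x⁻¹, inv_mem hx, ?_⟩
    rw [eqv_iff] at hxu ⊢
    rw [inv_pow, map_inv, map_inv, hxu]

theorem exists_pow_window (hG : IsPGroup p G) (h : SE p (⊤ : Subgroup G)) {a : ℕ} :
    ∀ k : ℕ, k ≤ a + 1 → ∀ {y : G}, y ∈ ser G p (a + 1) →
      ∃ x ∈ ser G p a, Eqv (ser G p (a + 1 + k)) (x ^ p) y := by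
  intro k
  induction k with
  | zero =>
    intro _ y hy
    exact ⟨1, one_mem _, by simpa using hy⟩
  | succ k ih =>
    intro hk y hy
    obtain ⟨x, hx, he⟩ := ih (by omega) hy
    obtain ⟨z, hz, hze⟩ := exists_pow_succ hG h (a := a + k) (y := (x ^ p)⁻¹ * y)
      (by rw [show a + k + 1 = a + 1 + k by omega]; exact he)
    refine ⟨x * z, mul_mem hx (ser_antitone (by omega) hz), ?_⟩
    have h1 := pow_mul_eqv hG h (l := a + 1 + (k + 1)) (by omega) hx
      (ser_antitone (by omega) hz)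
    rw [show a + k + 2 = a + 1 + (k + 1) by omega] at hze
    rw [eqv_iff] at h1 hze ⊢
    rw [h1, map_mul, hze, map_mul, map_inv, mul_inv_cancel_left]

theorem exists_pow_pow_window (hG : IsPGroup p G) (h : SE p (⊤ : Subgroup G)) :
    ∀ (t : ℕ) {a m : ℕ}, m ≤ a + 1 → ∀ {y : G}, y ∈ ser G p (t + a) →
      ∃ x ∈ ser G p a, Eqv (ser G p (t + a + m)) (x ^ p ^ t) y := by
  intro t
  induction t with
  | zero =>
    intro a m _ y hy
    exact ⟨y, by simpa using hy, by simp⟩
  | succ t ih =>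
    intro a m hm y hy
    rw [show t + 1 + a = t + a + 1 by omega] at hy
    obtain ⟨u, hu, hue⟩ := exists_pow_window hG h (a := t + a) m (by omega) hy
    obtain ⟨x, hx, hxe⟩ := ih hm hu
    refine ⟨x, hx, ?_⟩
    have h1 := pow_eqv hG h (a := t + a) (l := t + a + m) (by omega) (by omega)
      (pow_pow_mem_ser hx t) hxe
    rw [← pow_mul, ← pow_succ] at h1
    rw [show t + a + 1 + m = t + a + m + 1 by omega] at hue
    rw [show t + 1 + a + m = t + a + m + 1 by omega]
    rw [eqv_iff] at h1 hue ⊢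
    exact h1.trans hue

/-! ### Uniform groups -/

variable (G p) in
/-- All factors of the power series below `e` have the same order. -/
structure Uniform (e : ℕ) : Prop where
  grp : IsPGroup p G
  se : SE p (⊤ : Subgroup G)
  bot : ser G p e = ⊥
  card : ∀ i < e, (ser G p (i + 1)).relIndex (ser G p i) = (ser G p 1).relIndex (ser G p 0)

variable {e : ℕ}

theorem Uniform.mem_succ (U : Uniform G p e) {a : ℕ} (ha : a + 1 < e) {x : G} (hx : x ∈ ser G p a)
    (hxp : x ^ p ∈ ser G p (a + 2)) : x ∈ ser G p (a + 1) := by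
  classical
  set K := ser G p (a + 2)
  let φ : ser G p a →* G ⧸ K := MonoidHom.mk' (fun x => QuotientGroup.mk' K ((x : G) ^ p)) (by
    intro u v
    have h1 := pow_mul_eqv U.grp U.se (l := a + 2) (by omega) u.2 v.2
    rw [eqv_iff] at h1
    rw [← map_mul]
    exact h1)
  have hrange : φ.range = (ser G p (a + 1)).map (QuotientGroup.mk' K) := by
    refine le_antisymm ?_ ?_
    · rintro _ ⟨u, rfl⟩
      exact ⟨_, pow_mem_ser u.2, rfl⟩
    · rintro _ ⟨y, hy, rfl⟩
      obtain ⟨u, hu, he⟩ := exists_pow_succ U.grp U.se hy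
      exact ⟨⟨u, hu⟩, (eqv_iff.mp he)⟩
  have hker : (ser G p (a + 1)).subgroupOf (ser G p a) ≤ φ.ker := by
    intro u hu
    exact (QuotientGroup.eq_one_iff _).mpr (pow_mem_ser hu)
  have hidx : φ.ker.index = ((ser G p (a + 1)).subgroupOf (ser G p a)).index := by
    rw [Subgroup.index_ker, hrange]
    change _ = (ser G p (a + 1)).relIndex (ser G p a)
    rw [U.card a (by omega), ← U.card (a + 1) ha]
    have h1 : ((QuotientGroup.mk' K).comp (ser G p (a + 1)).subtype).range =
        (ser G p (a + 1)).map (QuotientGroup.mk' K) := by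
      rw [MonoidHom.range_comp, Subgroup.range_subtype]
    rw [← h1, ← Subgroup.index_ker, ← MonoidHom.comap_ker, QuotientGroup.ker_mk']
    rfl
  have heq : (ser G p (a + 1)).subgroupOf (ser G p a) = φ.ker := by
    refine Subgroup.eq_of_le_of_card_ge hker (le_of_eq ?_)
    refine Nat.eq_of_mul_eq_mul_right (Nat.pos_of_ne_zero φ.ker.index_ne_zero_of_finite) ?_
    rw [Subgroup.card_mul_index, hidx, Subgroup.card_mul_index]
  have : (⟨x, hx⟩ : ser G p a) ∈ φ.ker := (QuotientGroup.eq_one_iff _).mpr hxp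
  rw [← heq] at this
  exact this

theorem Uniform.mem_of_pow (U : Uniform G p e) {a : ℕ} :
    ∀ b, a ≤ b → b + 1 ≤ e → ∀ {x : G}, x ∈ ser G p a → x ^ p ∈ ser G p (b + 1) → x ∈ ser G p b := by
  intro b hb
  induction hb with
  | refl => exact fun _ x hx _ => hx
  | @step b hb ih =>
    intro he x hx hxp
    exact U.mem_succ (by omega) (ih (by omega) hx (ser_antitone (by omega) hxp)) hxp

theorem Uniform.mem_of_pow_pow (U : Uniform G p e) : ∀ (t : ℕ) {a b : ℕ}, a ≤ b → t + b ≤ e →
    ∀ {x : G}, x ∈ ser G p a → x ^ p ^ t ∈ ser G p (t + b) → x ∈ ser G p b := by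
  intro t
  induction t with
  | zero => intro a b _ _ x _ hx; simpa using hx
  | succ t ih =>
    intro a b hab he x hx hxp
    refine ih hab (by omega) hx ?_
    refine U.mem_of_pow (a := t + a) (t + b) (by omega) (by omega) (pow_pow_mem_ser hx t) ?_
    rw [← pow_mul, ← pow_succ, show t + b + 1 = t + 1 + b by omega]
    exact hxp

theorem Uniform.eqv_of_pow_pow (U : Uniform G p e) (t : ℕ) {a b : ℕ} (hab : a ≤ b)
    (hb : b ≤ 2 * a + 1) (he : t + b ≤ e) {x y : G} (hx : x ∈ ser G p a) (hy : y ∈ ser G p a)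
    (h : Eqv (ser G p (t + b)) (x ^ p ^ t) (y ^ p ^ t)) : Eqv (ser G p b) x y := by
  refine U.mem_of_pow_pow t hab he (mul_mem (inv_mem hx) hy) ?_
  have h1 := pow_pow_mul_eqv U.grp U.se t (l := b) (by omega) (inv_mem hx) hy
  rw [← QuotientGroup.eq_one_iff]
  rw [eqv_iff] at h1 h
  show QuotientGroup.mk' (ser G p (t + b)) _ = 1
  rw [h1, map_mul, inv_pow, map_inv, h, inv_mul_cancel]

/-- Raising to a power inside a commutator, modulo a window. -/
theorem comm_pow_eqv (hG : IsPGroup p G) (h : SE p (⊤ : Subgroup G)) {i a m : ℕ} (hi : a ≤ i)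
    (hm : m ≤ a + 1) {x z : G} (hx : x ∈ ser G p i) (hz : z ∈ ser G p a) :
    Eqv (ser G p (i + a + 2 + m + 1)) ⁅x ^ p, z⁆ (⁅x, z⁆ ^ p) := by
  rw [eqv_iff]
  set q := QuotientGroup.mk' (ser G p (i + a + 2 + m + 1))
  have hc : Commute (q x) ⁅q x, q z⁆ := by
    rw [← map_commutatorElement]
    refine commutatorElement_eq_one_iff_mul_comm.mp ?_
    rw [← map_commutatorElement]
    exact (QuotientGroup.eq_one_iff _).mpr
      (ser_antitone (by omega) (comm_mem_ser hG h hx (comm_mem_ser hG h hx hz)))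
  rw [map_commutatorElement, map_pow, comm_pow_left_of_commute hc p, map_pow, map_commutatorElement]

theorem comm_pow_pow_eqv (hG : IsPGroup p G) (h : SE p (⊤ : Subgroup G)) :
    ∀ (t : ℕ) {a m : ℕ}, m ≤ a + 1 → ∀ {x z : G}, x ∈ ser G p a → z ∈ ser G p a →
      Eqv (ser G p (t + (2 * a + 2 + m))) ⁅x ^ p ^ t, z⁆ (⁅x, z⁆ ^ p ^ t) := by
  intro t
  induction t with
  | zero => intro a m _ x z _ _; simp
  | succ t ih =>
    intro a m hm x z hx hz
    have h1 := comm_pow_eqv hG h (i := t + a) (a := a) (by omega) hm (pow_pow_mem_ser hx t) hz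
    have hmem : ⁅x ^ p ^ t, z⁆ ∈ ser G p (t + a + a + 2) :=
      comm_mem_ser hG h (pow_pow_mem_ser hx t) hz
    have h2 := pow_eqv hG h (a := t + a + a + 2) (l := t + (2 * a + 2 + m)) (by omega) (by omega)
      hmem (ih hm hx hz)
    rw [← pow_mul, ← pow_succ] at h1 h2
    rw [show t + a + a + 2 + m + 1 = t + (2 * a + 2 + m) + 1 by omega] at h1
    rw [show t + 1 + (2 * a + 2 + m) = t + (2 * a + 2 + m) + 1 by omega]
    rw [eqv_iff] at h1 h2 ⊢
    exact h1.trans h2

end Cfsg.Agent.Grp.Alperin
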