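import Mathlib
import Cfsg.Agent.Lib.Grp.AlperinDL.Series
import Cfsg.Agent.Lib.Grp.AlperinDL.Basic
import Cfsg.Agent.Lib.Grp.AlperinDL.LieBound

/-!
The Lie ring on a window of the power series of a uniform group: a commutator in depth `2a + 2` is
the `p ^ (a + 2)`-th power of an element of the window.
-/

set_option autoImplicit false
set_option linter.unusedSectionVars false
set_option linter.style.haveILetI false

namespace Cfsg.Agent.Grp.Alperin

open Subgroup
open scoped commutatorElement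

universe u

variable {G : Type u} [Group G] [Finite G] {p : ℕ} [hp : Fact p.Prime] {e : ℕ}

variable (G p) in
/-- The hypotheses on a window. -/
structure Win (e a m : ℕ) : Prop where
  uni : Uniform G p e
  width : m ≤ a + 1
  top : 3 * a + 4 + m ≤ e

variable (G p) in
/-- The window `s a / s (a + m)`. -/
abbrev WQ (a m : ℕ) : Type u :=
  ↥(ser G p a) ⧸ (ser G p (a + m)).subgroupOf (ser G p a)

/-- The class of an element of the window. -/
def cls (a m : ℕ) (x : ↥(ser G p a)) : Additive (WQ G p a m) := Additive.ofMul (QuotientGroup.mk x)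

theorem cls_surj {a m : ℕ} (z : Additive (WQ G p a m)) : ∃ x, cls a m x = z :=
  QuotientGroup.mk_surjective (Additive.toMul z)

theorem cls_eq {a m : ℕ} {x y : ↥(ser G p a)} :
    cls a m x = cls a m y ↔ Eqv (ser G p (a + m)) (x : G) y :=
  ⟨fun h => (QuotientGroup.eq.mp (congrArg Additive.toMul h :
      (QuotientGroup.mk x : WQ G p a m) = QuotientGroup.mk y) : _),
    fun h => congrArg Additive.ofMul (QuotientGroup.eq.mpr (show x⁻¹ * y ∈
      (ser G p (a + m)).subgroupOf (ser G p a) from h))⟩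

variable {a m : ℕ}

theorem Win.exists_root (W : Win G p e a m) {x y : G} (hx : x ∈ ser G p a) (hy : y ∈ ser G p a) :
    ∃ v : ↥(ser G p a), Eqv (ser G p (2 * a + 2 + m)) ((v : G) ^ p ^ (a + 2)) ⁅x, y⁆ := by
  obtain ⟨v, hv, he⟩ := exists_pow_pow_window W.uni.grp W.uni.se (a + 2) W.width
    (a := a) (y := ⁅x, y⁆) (by
      rw [show a + 2 + a = a + a + 2 by omega]
      exact comm_mem_ser W.uni.grp W.uni.se hx hy)
  exact ⟨⟨v, hv⟩, by rwa [show a + 2 + a + m = 2 * a + 2 + m by omega] at he⟩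

theorem Win.root_unique (W : Win G p e a m) {v w : ↥(ser G p a)}
    (h : Eqv (ser G p (2 * a + 2 + m)) ((v : G) ^ p ^ (a + 2)) ((w : G) ^ p ^ (a + 2))) :
    cls a m v = cls a m w := by
  have := W.top
  have := W.width
  refine cls_eq.mpr (W.uni.eqv_of_pow_pow (a + 2) (by omega) (by omega) (by omega) v.2 w.2 ?_)
  rwa [show a + 2 + (a + m) = 2 * a + 2 + m by omega]

/-- The additive group of the window. -/
theorem Win.comm (W : Win G p e a m) (x y : WQ G p a m) : x * y = y * x := by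
  obtain ⟨x, rfl⟩ := QuotientGroup.mk_surjective x
  obtain ⟨y, rfl⟩ := QuotientGroup.mk_surjective y
  have := W.width
  rw [← QuotientGroup.mk_mul, ← QuotientGroup.mk_mul, QuotientGroup.eq, Subgroup.mem_subgroupOf]
  have h1 : ⁅(y : G)⁻¹, (x : G)⁻¹⁆ ∈ ser G p (a + m) :=
    ser_antitone (by omega) (comm_mem_ser W.uni.grp W.uni.se (inv_mem y.2) (inv_mem x.2))
  simpa [commutatorElement_def, mul_assoc] using h1

/-- The commutative group structure. -/
@[reducible] noncomputable def Win.commGroup (W : Win G p e a m) : CommGroup (WQ G p a m) :=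
  { (inferInstance : Group (WQ G p a m)) with mul_comm := W.comm }

/-- The root of a commutator. -/
noncomputable def Win.root (W : Win G p e a m) (x y : ↥(ser G p a)) : ↥(ser G p a) :=
  (W.exists_root x.2 y.2).choose

theorem Win.root_spec (W : Win G p e a m) (x y : ↥(ser G p a)) :
    QuotientGroup.mk' (ser G p (2 * a + 2 + m)) ((W.root x y : G) ^ p ^ (a + 2)) =
      QuotientGroup.mk' (ser G p (2 * a + 2 + m)) ⁅(x : G), (y : G)⁆ :=
  eqv_iff.mp (W.exists_root x.2 y.2).choose_spec

theorem Win.cls_root_eq (W : Win G p e a m) {x y v : ↥(ser G p a)}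
    (h : QuotientGroup.mk' (ser G p (2 * a + 2 + m)) ((v : G) ^ p ^ (a + 2)) =
      QuotientGroup.mk' (ser G p (2 * a + 2 + m)) ⁅(x : G), (y : G)⁆) :
    cls a m (W.root x y) = cls a m v :=
  W.root_unique (eqv_iff.mpr ((W.root_spec x y).trans h.symm))

theorem Win.root_congr (W : Win G p e a m) {x x' y y' : ↥(ser G p a)} (hx : cls a m x = cls a m x')
    (hy : cls a m y = cls a m y') : cls a m (W.root x y) = cls a m (W.root x' y') := by
  refine W.cls_root_eq ((W.root_spec x' y').trans ?_)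
  set q := QuotientGroup.mk' (ser G p (2 * a + 2 + m))
  have hk : ∀ {k z : G}, k ∈ ser G p (a + m) → z ∈ ser G p a → Commute (q k) (q z) := fun {k z} hk hz => by
    refine commutatorElement_eq_one_iff_mul_comm.mp ?_
    rw [← map_commutatorElement]
    exact (QuotientGroup.eq_one_iff _).mpr
      (ser_antitone (by omega) (comm_mem_ser W.uni.grp W.uni.se hk hz))
  have ex : (x' : G) = x * ((x : G)⁻¹ * x') := by group
  have ey : (y' : G) = y * ((y : G)⁻¹ * y') := by group
  have c1 := hk (cls_eq.mp hx) y'.2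
  have c2 := hk (cls_eq.mp hy) x.2
  rw [map_commutatorElement, map_commutatorElement]
  rw [show q (x' : G) = q x * q ((x : G)⁻¹ * x') by rw [← map_mul, ← ex], comm_mul_left,
    commutatorElement_eq_one_iff_mul_comm.mpr c1, mul_one, mul_inv_cancel, one_mul,
    show q (y' : G) = q y * q ((y : G)⁻¹ * y') by rw [← map_mul, ← ey], comm_mul_right,
    commutatorElement_eq_one_iff_mul_comm.mpr c2.symm, mul_one, mul_inv_cancel, mul_one]

/-- The bracket. -/
noncomputable def Win.br (W : Win G p e a m) (X Y : Additive (WQ G p a m)) : Additive (WQ G p a m) :=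
  cls a m (W.root (cls_surj X).choose (cls_surj Y).choose)

theorem Win.br_cls (W : Win G p e a m) (x y : ↥(ser G p a)) :
    W.br (cls a m x) (cls a m y) = cls a m (W.root x y) :=
  W.root_congr (cls_surj (cls a m x)).choose_spec (cls_surj (cls a m y)).choose_spec

theorem Win.root_mul (W : Win G p e a m) (x x' y : ↥(ser G p a)) :
    cls a m (W.root (x * x') y) = cls a m (W.root x y * W.root x' y) ∧
      cls a m (W.root y (x * x')) = cls a m (W.root y x * W.root y x') := by
  have := W.width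
  set q := QuotientGroup.mk' (ser G p (2 * a + 2 + m))
  have hcom : ∀ {u c : G}, u ∈ ser G p a → c ∈ ser G p (2 * a + 2) → Commute (q u) (q c) :=
    fun {u c} hu hc => by
      refine commutatorElement_eq_one_iff_mul_comm.mp ?_
      rw [← map_commutatorElement]
      exact (QuotientGroup.eq_one_iff _).mpr
        (ser_antitone (by omega) (comm_mem_ser W.uni.grp W.uni.se hu hc))
  have hcm : ∀ u v : ↥(ser G p a), ⁅(u : G), (v : G)⁆ ∈ ser G p (2 * a + 2) := fun u v =>
    ser_antitone (by omega) (comm_mem_ser W.uni.grp W.uni.se u.2 v.2)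
  have hmul : ∀ u v : ↥(ser G p a),
      q ((((u * v : ↥(ser G p a)) : G)) ^ p ^ (a + 2)) =
        q ((u : G) ^ p ^ (a + 2)) * q ((v : G) ^ p ^ (a + 2)) := fun u v => by
    have h1 := pow_pow_mul_eqv W.uni.grp W.uni.se (a + 2) (l := a + m) (by omega) u.2 v.2
    rw [show a + 2 + (a + m) = 2 * a + 2 + m by omega, eqv_iff] at h1
    rw [← map_mul]; exact h1
  constructor
  · refine W.cls_root_eq ?_
    rw [hmul, W.root_spec, W.root_spec]
    show _ = q ⁅((x : G) * x'), (y : G)⁆
    rw [comm_mul_left, map_mul, map_mul, map_mul, map_inv, (hcom x.2 (hcm x' y)).eq,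
      mul_inv_cancel_right]
    exact (hcom (ser_antitone (by omega) (hcm x y)) (hcm x' y)).eq
  · refine W.cls_root_eq ?_
    rw [hmul, W.root_spec, W.root_spec]
    show _ = q ⁅(y : G), ((x : G) * x')⁆
    rw [comm_mul_right, map_mul, map_mul, map_mul, map_inv, (hcom x.2 (hcm y x')).eq,
      mul_inv_cancel_right]

theorem Win.root_self (W : Win G p e a m) (x : ↥(ser G p a)) :
    cls a m (W.root x x) = cls a m 1 := by
  refine W.cls_root_eq ?_
  simp

theorem Win.double (W : Win G p e a m) (x y z : ↥(ser G p a)) :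
    QuotientGroup.mk' (ser G p (3 * a + 4 + m)) ((W.root (W.root x y) z : G) ^ p ^ (a + 2 + (a + 2))) =
      QuotientGroup.mk' (ser G p (3 * a + 4 + m)) ⁅⁅(x : G), (y : G)⁆, (z : G)⁆ := by
  have := W.width
  set q := QuotientGroup.mk' (ser G p (3 * a + 4 + m))
  set u := W.root x y
  -- replace the inner commutator
  have h1 : q ⁅⁅(x : G), (y : G)⁆, (z : G)⁆ = q ⁅(u : G) ^ p ^ (a + 2), (z : G)⁆ := by
    have hk : ((u : G) ^ p ^ (a + 2))⁻¹ * ⁅(x : G), (y : G)⁆ ∈ ser G p (2 * a + 2 + m) :=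
      eqv_iff.mpr (W.root_spec x y)
    have hkz : q ⁅((u : G) ^ p ^ (a + 2))⁻¹ * ⁅(x : G), (y : G)⁆, (z : G)⁆ = 1 :=
      (QuotientGroup.eq_one_iff _).mpr
        (ser_antitone (by omega) (comm_mem_ser W.uni.grp W.uni.se hk z.2))
    conv_lhs => rw [show ⁅(x : G), (y : G)⁆ =
      (u : G) ^ p ^ (a + 2) * (((u : G) ^ p ^ (a + 2))⁻¹ * ⁅(x : G), (y : G)⁆) by group,
      comm_mul_left]
    rw [map_mul, map_mul, map_mul, map_inv, hkz, mul_one, mul_inv_cancel, one_mul]
  have h2 := comm_pow_pow_eqv W.uni.grp W.uni.se (a + 2) W.width u.2 z.2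
  rw [show a + 2 + (2 * a + 2 + m) = 3 * a + 4 + m by omega, eqv_iff] at h2
  have h3 := pow_pow_eqv W.uni.grp W.uni.se (a + 2) (a := 2 * a + 2) (l := 2 * a + 2 + m)
    (by omega) (by omega) (x := (W.root u z : G) ^ p ^ (a + 2)) (by
      rw [show 2 * a + 2 = a + 2 + a by omega]
      exact pow_pow_mem_ser (W.root u z).2 (a + 2)) (eqv_iff.mpr (W.root_spec u z))
  rw [show a + 2 + (2 * a + 2 + m) = 3 * a + 4 + m by omega, eqv_iff, ← pow_mul, ← pow_add] at h3
  exact h3.trans (h2.symm.trans h1.symm)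

theorem Win.jacobi (W : Win G p e a m) (x y z : ↥(ser G p a)) :
    cls a m (W.root (W.root x⁻¹ y) z * W.root (W.root z⁻¹ x) y * W.root (W.root y⁻¹ z) x) =
      cls a m 1 := by
  have := W.width
  have := W.top
  set t2 := a + 2 + (a + 2) with ht2
  refine cls_eq.mpr (W.uni.eqv_of_pow_pow t2 (by omega) (by omega) (by omega)
    (Subtype.coe_prop _) (Subtype.coe_prop _) ?_)
  rw [eqv_iff, show t2 + (a + m) = 3 * a + 4 + m by omega]
  set q := QuotientGroup.mk' (ser G p (3 * a + 4 + m))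
  have hmul : ∀ u v : ↥(ser G p a),
      q ((((u * v : ↥(ser G p a)) : G)) ^ p ^ t2) =
        q ((u : G) ^ p ^ t2) * q ((v : G) ^ p ^ t2) := fun u v => by
    have h1 := pow_pow_mul_eqv W.uni.grp W.uni.se t2 (l := a + m) (by omega) u.2 v.2
    rw [show t2 + (a + m) = 3 * a + 4 + m by omega, eqv_iff] at h1
    rw [← map_mul]; exact h1
  rw [hmul, hmul, W.double, W.double, W.double]
  simp only [OneMemClass.coe_one, one_pow, map_one, InvMemClass.coe_inv]
  have hconj : ∀ (u : ↥(ser G p a)) (c : G), c ∈ ser G p (3 * a + 4) →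
      q c = q ((u : G) * c * (u : G)⁻¹) := fun u c hc => by
    have h1 : q ⁅(u : G), c⁆ = 1 := (QuotientGroup.eq_one_iff _).mpr
      (ser_antitone (by omega) (comm_mem_ser W.uni.grp W.uni.se u.2 hc))
    rw [show (u : G) * c * (u : G)⁻¹ = ⁅(u : G), c⁆ * c by simp only [commutatorElement_def]; group,
      map_mul, h1, one_mul]
  have hmem : ∀ u v w : G, u ∈ ser G p a → v ∈ ser G p a → w ∈ ser G p a →
      ⁅⁅u, v⁆, w⁆ ∈ ser G p (3 * a + 4) := fun u v w hu hv hw =>
    ser_antitone (by omega)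
      (comm_mem_ser W.uni.grp W.uni.se (comm_mem_ser W.uni.grp W.uni.se hu hv) hw)
  rw [hconj x _ (hmem _ _ _ (inv_mem x.2) y.2 z.2), hconj z _ (hmem _ _ _ (inv_mem z.2) x.2 y.2),
    hconj y _ (hmem _ _ _ (inv_mem y.2) z.2 x.2), ← map_mul, ← map_mul]
  rw [show (x : G) * ⁅⁅(x : G)⁻¹, (y : G)⁆, (z : G)⁆ * (x : G)⁻¹ *
      ((z : G) * ⁅⁅(z : G)⁻¹, (x : G)⁆, (y : G)⁆ * (z : G)⁻¹) *
      ((y : G) * ⁅⁅(y : G)⁻¹, (z : G)⁆, (x : G)⁆ * (y : G)⁻¹) = 1 by
    simp only [commutatorElement_def]; group, map_one]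

/-- The Lie ring of a window. -/
@[reducible] noncomputable def Win.lieRing (W : Win G p e a m) : LieRing (Additive (WQ G p a m)) := by
  letI := W.commGroup
  have hmul : ∀ u v : ↥(ser G p a), cls a m (u * v) = cls a m u + cls a m v := fun _ _ => rfl
  have hone : cls a m (1 : ↥(ser G p a)) = 0 := rfl
  have hinv : ∀ u : ↥(ser G p a), cls a m u⁻¹ = -cls a m u := fun _ => rfl
  have hadd : ∀ X X' Y, W.br (X + X') Y = W.br X Y + W.br X' Y := by
    intro X X' Y
    obtain ⟨x, rfl⟩ := cls_surj X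
    obtain ⟨x', rfl⟩ := cls_surj X'
    obtain ⟨y, rfl⟩ := cls_surj Y
    rw [← hmul, W.br_cls, W.br_cls, W.br_cls, ← hmul]
    exact (W.root_mul x x' y).1
  have hadd' : ∀ Y X X', W.br Y (X + X') = W.br Y X + W.br Y X' := by
    intro Y X X'
    obtain ⟨x, rfl⟩ := cls_surj X
    obtain ⟨x', rfl⟩ := cls_surj X'
    obtain ⟨y, rfl⟩ := cls_surj Y
    rw [← hmul, W.br_cls, W.br_cls, W.br_cls, ← hmul]
    exact (W.root_mul x x' y).2
  have hself : ∀ X, W.br X X = 0 := by
    intro X
    obtain ⟨x, rfl⟩ := cls_surj X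
    rw [W.br_cls, W.root_self, hone]
  have hskew : ∀ X Y, W.br Y X = -W.br X Y := by
    intro X Y
    have h := hself (X + Y)
    rw [hadd, hadd', hadd', hself, hself, zero_add, add_zero] at h
    exact eq_neg_of_add_eq_zero_right h
  have hneg : ∀ X Y, W.br (-X) Y = -W.br X Y := fun X Y =>
    map_neg (AddMonoidHom.mk' (fun X => W.br X Y) fun u v => hadd u v Y) X
  have hjac : ∀ X Y Z, W.br (W.br X Y) Z + W.br (W.br Z X) Y + W.br (W.br Y Z) X = 0 := by
    intro X Y Z
    obtain ⟨x, rfl⟩ := cls_surj X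
    obtain ⟨y, rfl⟩ := cls_surj Y
    obtain ⟨z, rfl⟩ := cls_surj Z
    have h := W.jacobi x y z
    rw [hmul, hmul, hone, ← W.br_cls, ← W.br_cls, ← W.br_cls, ← W.br_cls, ← W.br_cls, ← W.br_cls,
      hinv, hinv, hinv, hneg, hneg, hneg, hneg, hneg, hneg, ← neg_add, ← neg_add, neg_eq_zero] at h
    exact h
  exact
    { (inferInstance : AddCommGroup (Additive (WQ G p a m))) with
      bracket := W.br
      add_lie := hadd
      lie_add := hadd'
      lie_self := hself
      leibniz_lie := fun X Y Z => by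
        show W.br X (W.br Y Z) = W.br (W.br X Y) Z + W.br Y (W.br X Z)
        rw [hskew (W.br Y Z) X, hskew (W.br X Z) Y, hskew Z X, hneg, neg_neg,
          neg_eq_iff_add_eq_zero, add_comm]
        exact hjac X Y Z }

end Cfsg.Agent.Grp.Alperin
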