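import Mathlib
import Cfsg.Agent.Lib.Grp.AlperinDL.Window

/-!
A uniform strongly powerful group with an automorphism of order dividing `p` with at most `p ^ n`
fixed points has bounded derived length.
-/

set_option autoImplicit false
set_option linter.unusedSectionVars false
set_option linter.style.haveILetI false

namespace Cfsg.Agent.Grp.Alperin

open Subgroup
open scoped commutatorElement

universe u

variable {G : Type u} [Group G] [Finite G] {p : ℕ} [hp : Fact p.Prime]

/-- The exponent lost in the Lie ring. -/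
def cBd (p n : ℕ) : ℕ := (hBd p + 1) * (n + 1)

omit [Finite G] hp in
theorem inv_ser (α : MulAut G) (i : ℕ) : Inv α (ser G p i) := by
  show (pwI p i ⊤).map _ = _
  rw [map_pwI, Subgroup.map_top_of_surjective _ α.surjective]
  rfl

omit [Finite G] hp in
theorem lcs_le_base (S : Subgroup G) : ∀ k, S.lowerCentralSeries k ≤ S := by
  intro k
  induction k with
  | zero => rw [Subgroup.lowerCentralSeries_zero]
  | succ k ih =>
    rw [Subgroup.lowerCentralSeries_succ, Subgroup.commutator_le]
    exact fun x hx y hy => S.mul_mem (S.mul_mem (S.mul_mem (ih hx) hy) (S.inv_mem (ih hx))) (S.inv_mem hy)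

theorem lcs_ser_le (hG : IsPGroup p G) (h : SE p (⊤ : Subgroup G)) (a : ℕ) :
    ∀ k, (ser G p a).lowerCentralSeries k ≤ ser G p ((k + 1) * a + 2 * k) := by
  intro k
  induction k with
  | zero => simp
  | succ k ih =>
    rw [Subgroup.lowerCentralSeries_succ]
    refine (Subgroup.commutator_mono ih le_rfl).trans ((ser_comm hG h _ a).trans (ser_antitone ?_))
    exact le_of_eq (by ring)

/-- Iterated commutators in a window come from the Lie ring. -/
theorem Win.gamma {e a m : ℕ} (W : Win G p e a m) :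
    letI := W.lieRing
    ∀ k, ∀ g ∈ (ser G p a).lowerCentralSeries k, ∃ w : ↥(ser G p a),
      cls a m w ∈ lieLcs (Additive (WQ G p a m)) k ∧
        QuotientGroup.mk' (ser G p (k * (a + 2) + (a + m))) ((w : G) ^ p ^ (k * (a + 2))) =
          QuotientGroup.mk' (ser G p (k * (a + 2) + (a + m))) g := by
  letI := W.lieRing
  intro k
  induction k with
  | zero =>
    intro g hg
    rw [Subgroup.lowerCentralSeries_zero] at hg
    exact ⟨⟨g, hg⟩, trivial, by simp⟩
  | succ k ih =>
    have := W.width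
    intro g hg
    set T := k * (a + 2)
    have hT : (k + 1) * (a + 2) = T + (a + 2) := by ring
    set q := QuotientGroup.mk' (ser G p ((k + 1) * (a + 2) + (a + m)))
    rw [Subgroup.lowerCentralSeries_succ, Subgroup.commutator_def] at hg
    induction hg using Subgroup.closure_induction with
    | mem c hc =>
      obtain ⟨x, hx, z, hz, rfl⟩ := hc
      obtain ⟨w, hw, hwe⟩ := ih x hx
      refine ⟨W.root w ⟨z, hz⟩, AddSubgroup.subset_closure
        ⟨cls a m w, hw, cls a m ⟨z, hz⟩, W.br_cls w ⟨z, hz⟩⟩, ?_⟩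
      have h1 : q ⁅x, z⁆ = q ⁅(w : G) ^ p ^ T, z⁆ := by
        have hk : ((w : G) ^ p ^ T)⁻¹ * x ∈ ser G p (T + (a + m)) := eqv_iff.mpr hwe
        have hkz : q ⁅((w : G) ^ p ^ T)⁻¹ * x, z⁆ = 1 := (QuotientGroup.eq_one_iff _).mpr
          (ser_antitone (by omega) (comm_mem_ser W.uni.grp W.uni.se hk hz))
        conv_lhs => rw [show x = (w : G) ^ p ^ T * (((w : G) ^ p ^ T)⁻¹ * x) by group, comm_mul_left]
        rw [map_mul, map_mul, map_mul, map_inv, hkz, mul_one, mul_inv_cancel, one_mul]
      have h2 := comm_pow_pow_eqv W.uni.grp W.uni.se T W.width w.2 hz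
      rw [show T + (2 * a + 2 + m) = (k + 1) * (a + 2) + (a + m) by omega, eqv_iff] at h2
      have h3 := pow_pow_eqv W.uni.grp W.uni.se T (a := 2 * a + 2) (l := 2 * a + 2 + m)
        (by omega) (by omega) (x := (W.root w ⟨z, hz⟩ : G) ^ p ^ (a + 2)) (by
          rw [show 2 * a + 2 = a + 2 + a by omega]
          exact pow_pow_mem_ser (W.root w ⟨z, hz⟩).2 (a + 2)) (eqv_iff.mpr (W.root_spec w ⟨z, hz⟩))
      rw [show T + (2 * a + 2 + m) = (k + 1) * (a + 2) + (a + m) by omega, eqv_iff, ← pow_mul,
        ← pow_add, show a + 2 + T = (k + 1) * (a + 2) by omega] at h3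
      exact h3.trans (h2.symm.trans h1.symm)
    | one => exact ⟨1, (lieLcs _ (k + 1)).zero_mem, by simp⟩
    | mul u v _ _ hu hv =>
      obtain ⟨x, hxm, hxe⟩ := hu
      obtain ⟨y, hym, hye⟩ := hv
      refine ⟨x * y, (lieLcs _ (k + 1)).add_mem hxm hym, ?_⟩
      have h1 := pow_pow_mul_eqv W.uni.grp W.uni.se ((k + 1) * (a + 2)) (l := a + m) (by omega) x.2 y.2
      rw [eqv_iff] at h1
      rw [map_mul, ← hxe, ← hye, ← map_mul]
      exact h1
    | inv u _ hu =>
      obtain ⟨x, hxm, hxe⟩ := hu
      refine ⟨x⁻¹, (lieLcs _ (k + 1)).neg_mem hxm, ?_⟩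
      rw [InvMemClass.coe_inv, inv_pow, map_inv, map_inv, hxe]

theorem Win.gamma_bot {e a m n : ℕ} (W : Win G p e a m) {α : MulAut G} (hα : AutOK p (p ^ n) α)
    (he : (hBd p + 1) * a + 2 * hBd p + m = e) :
    (ser G p a).lowerCentralSeries (hBd p) ≤ ser G p (e - cBd p n) := by
  classical
  letI := W.lieRing
  have hinva := inv_ser (p := p) α a
  set β := sAut α (ser G p a) hinva
  have hN : Inv β ((ser G p (a + m)).subgroupOf (ser G p a)) :=
    inv_of_le fun x hx => Inv.mem (inv_ser (p := p) α (a + m)) hx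
  set γ := qAut β _ hN
  have hγ : AutOK p (p ^ n) γ := (hα.sub _ hinva).quot _ hN
  let ψ : Additive (WQ G p a m) →+ Additive (WQ G p a m) :=
    AddMonoidHom.mk' (fun X => Additive.ofMul (γ (Additive.toMul X))) fun X Y => by
      show Additive.ofMul (γ (Additive.toMul X * Additive.toMul Y)) = _
      rw [map_mul]; rfl
  have hψc : ∀ x, ψ (cls a m x) = cls a m (β x) := fun x => rfl
  have hψ : ∀ X Y, ψ ⁅X, Y⁆ = ⁅ψ X, ψ Y⁆ := by
    intro X Y
    obtain ⟨x, rfl⟩ := cls_surj X
    obtain ⟨y, rfl⟩ := cls_surj Y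
    show ψ (W.br _ _) = W.br _ _
    rw [W.br_cls, hψc, hψc, hψc, W.br_cls]
    refine (W.cls_root_eq (eqv_iff.mp ?_)).symm
    have h1 := Inv.mem (inv_ser (p := p) α (2 * a + 2 + m)) (eqv_iff.mpr (W.root_spec x y))
    rw [map_mul, map_inv, map_pow, map_commutatorElement] at h1
    exact h1
  have hψit : ∀ (k : ℕ) (X : Additive (WQ G p a m)),
      ψ^[k] X = Additive.ofMul ((γ ^ k) (Additive.toMul X)) := by
    intro k X
    induction k with
    | zero => rfl
    | succ k ih => rw [Function.iterate_succ_apply', ih, pow_succ', MulAut.mul_apply]; rfl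
  have hψp : ∀ X, ψ^[p] X = X := fun X => by rw [hψit, hγ.pow]; rfl
  have hfix : ∀ X, ψ X = X → p ^ n • X = 0 := by
    intro X hX
    have hmem : Additive.toMul X ∈ fixSub γ := congrArg Additive.toMul hX
    obtain ⟨j, hj⟩ := IsPGroup.iff_card.mp
      ((((W.uni.grp.to_subgroup (ser G p a))).to_quotient
        ((ser G p (a + m)).subgroupOf (ser G p a))).to_subgroup (fixSub γ))
    have hle : p ^ j ≤ p ^ n := hj ▸ (card_fixSub γ).le.trans hγ.fix
    have h1 : (⟨Additive.toMul X, hmem⟩ : fixSub γ) ^ p ^ n = 1 := by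
      rw [← Nat.add_sub_cancel' ((Nat.pow_le_pow_iff_right hp.out.one_lt).mp hle), pow_add, pow_mul,
        ← hj, pow_card_eq_one', one_pow]
    exact congrArg (fun z : fixSub γ => Additive.ofMul (z : WQ G p a m)) h1
  have hpow : ∀ (x : ↥(ser G p a)) (N : ℕ), cls a m (x ^ N) = N • cls a m x := fun x N => rfl
  intro g hg
  obtain ⟨w, hwm, hwe⟩ := W.gamma (hBd p) g hg
  have h1 := lie_bound ψ hψ hψp n hfix _ hwm
  rw [← hpow] at h1
  have h2 : (w : G) ^ p ^ cBd p n ∈ ser G p (a + m) := by
    have h3 := (cls_eq (x := (1 : ↥(ser G p a))) (y := w ^ p ^ cBd p n)).mp h1.symm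
    simpa using h3
  have he' : hBd p * (a + 2) + (a + m) = e := by rw [← he]; ring
  have hw : (w : G) ∈ ser G p (a + (m - cBd p n)) := by
    rcases le_total m (cBd p n) with hle | hle
    · rw [Nat.sub_eq_zero_of_le hle, add_zero]; exact w.2
    · refine W.uni.mem_of_pow_pow (cBd p n) (Nat.le_add_right _ _) (by omega) w.2 ?_
      rwa [show cBd p n + (a + (m - cBd p n)) = a + m by omega]
  have hg' : g = (w : G) ^ p ^ (hBd p * (a + 2)) := by
    have h3 := eqv_iff.mpr hwe
    rw [he', W.uni.bot] at h3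
    exact (inv_mul_eq_one.mp (Subgroup.mem_bot.mp h3)).symm
  rw [hg']
  exact ser_antitone (by omega) (pow_pow_mem_ser hw _)

theorem SE_gamma (hG : IsPGroup p G) (h : SE p (⊤ : Subgroup G)) :
    ∀ k, SE p ((⊤ : Subgroup G).lowerCentralSeries k) := by
  intro k
  induction k with
  | zero => rwa [Subgroup.lowerCentralSeries_zero]
  | succ k ih => rw [Subgroup.lowerCentralSeries_succ]; exact SE_commutator hG ih

theorem pwI_commutator_top (hG : IsPGroup p G) :
    ∀ (j : ℕ) (M : Subgroup G) [M.Normal], SE p M →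
      pwI p j ⁅M, (⊤ : Subgroup G)⁆ ≤ ⁅pwI p j M, (⊤ : Subgroup G)⁆ := by
  intro j
  induction j with
  | zero => exact fun M _ _ => le_rfl
  | succ j ih =>
    intro M _ hM
    exact (pw_mono (ih M hM)).trans (pw_commutator_top hG (SE_pwI hG hM j))

theorem pwI_commutator_ser (hG : IsPGroup p G) (h : SE p (⊤ : Subgroup G)) {a : ℕ}
    (M : Subgroup G) [M.Normal] (hM : SE p M) (hMa : M ≤ ser G p a) :
    ∀ j ≤ a, pwI p j ⁅M, (⊤ : Subgroup G)⁆ ≤ ⁅M, ser G p j⁆ := by
  intro j
  induction j with
  | zero => exact fun _ => le_rfl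
  | succ j ih =>
    intro hj
    exact (pw_mono (ih (by omega))).trans
      (pw_commutator_right hG hM (SE_ser hG h j) (hMa.trans (ser_antitone (by omega))))

theorem pwI_gamma_le (hG : IsPGroup p G) (h : SE p (⊤ : Subgroup G)) (a : ℕ) :
    ∀ k, pwI p ((k + 1) * a) ((⊤ : Subgroup G).lowerCentralSeries k) ≤
      (ser G p a).lowerCentralSeries k := by
  intro k
  induction k with
  | zero =>
    rw [Subgroup.lowerCentralSeries_zero, Subgroup.lowerCentralSeries_zero, zero_add, one_mul]
    exact le_rfl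
  | succ k ih =>
    rw [show (k + 1 + 1) * a = a + (k + 1) * a by ring, pwI_add,
      Subgroup.lowerCentralSeries_succ, Subgroup.lowerCentralSeries_succ]
    have hSE := SE_gamma hG h k
    refine (pwI_mono a (pwI_commutator_top hG ((k + 1) * a) _ hSE)).trans ?_
    refine (pwI_commutator_ser hG h (a := a) _ (SE_pwI hG hSE _)
      (ih.trans (lcs_le_base _ k)) a le_rfl).trans ?_
    exact Subgroup.commutator_mono ih le_rfl

theorem derived_shift (hG : IsPGroup p G) (h : SE p (⊤ : Subgroup G)) {b j : ℕ}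
    (hb : derivedSeries G b ≤ ser G p j) : ∀ k, derivedSeries G (b + k) ≤ ser G p (j + k) := by
  intro k
  induction k with
  | zero => exact hb
  | succ k ih =>
    rw [← add_assoc, derivedSeries_succ]
    exact (Subgroup.commutator_mono ih ih).trans ((ser_comm hG h _ _).trans (ser_antitone (by omega)))

/-- The bound for uniform groups. -/
def uBd (p n : ℕ) : ℕ := hBd p + cBd p n + hBd p + cBd p n

theorem uniform_bound {e n : ℕ} (U : Uniform G p e) {α : MulAut G} (hα : AutOK p (p ^ n) α) :
    derivedSeries G (uBd p n) = ⊥ := by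
  classical
  have hG := U.grp
  have hse := U.se
  set h := hBd p with hh
  set c := cBd p n with hc
  have h2 : 2 ≤ h := hBd_two_le p
  have hex : ∃ a, e ≤ (h + 2) * a + 2 * h + 1 := ⟨e, by
    have : e ≤ (h + 2) * e := Nat.le_mul_of_pos_left e (by omega)
    omega⟩
  set a := Nat.find hex with ha
  have hQ : e ≤ (h + 2) * a + 2 * h + 1 := Nat.find_spec hex
  have hγa : (ser G p a).lowerCentralSeries h ≤ ser G p (e - c) := by
    rcases le_or_gt e ((h + 1) * a + 2 * h) with hle | hlt
    · exact (lcs_ser_le hG hse a h).trans (ser_antitone (by omega))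
    · have hsplit : (h + 2) * a = (h + 1) * a + a := by ring
      have hW : Win G p e a (e - ((h + 1) * a + 2 * h)) := by
        refine ⟨U, by omega, ?_⟩
        have e1 : (h + 1) * a = (h - 2) * a + 3 * a := by
          rw [← add_mul, show h - 2 + 3 = h + 1 by omega]
        omega
      exact hW.gamma_bot hα (by rw [← hh]; omega)
  have hj : (⊤ : Subgroup G).lowerCentralSeries h ≤ ser G p (e - ((h + 1) * a + c)) := by
    intro g hg
    rcases le_or_gt e ((h + 1) * a + c) with hle | hlt
    · rw [Nat.sub_eq_zero_of_le hle, ser_zero]; trivial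
    refine U.mem_of_pow_pow ((h + 1) * a + c) (Nat.zero_le _) (by omega) (Subgroup.mem_top g) ?_
    have h1 : g ^ p ^ ((h + 1) * a + c) ∈ pwI p (c + (h + 1) * a) ((⊤ : Subgroup G).lowerCentralSeries h) :=
      add_comm c _ ▸ pow_pow_mem_pwI hg _
    rw [pwI_add] at h1
    have h3 := pwI_mono c ((pwI_gamma_le hG hse a h).trans hγa) h1
    rw [pwI_ser] at h3
    exact ser_antitone (by omega) h3
  have hja : a ≤ e - ((h + 1) * a + c) + c := by
    by_cases h0 : a = 0
    · omega
    have hmin : ¬ e ≤ (h + 2) * (a - 1) + 2 * h + 1 := Nat.find_min hex (by omega)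
    obtain ⟨b, hb⟩ : ∃ b, a = b + 1 := ⟨a - 1, by omega⟩
    rw [hb, Nat.add_sub_cancel] at hmin
    have e1 : (h + 1) * a + b = (h + 2) * b + h + 1 := by rw [hb]; ring
    omega
  have d1 : derivedSeries G (h + c) ≤ ser G p a :=
    (derived_shift hG hse ((Subgroup.derived_le_lower_central h).trans hj) c).trans (ser_antitone hja)
  have d2 : derivedSeries G (h + c + h) ≤ ser G p (e - c) := by
    refine (derived_add_le d1 h).trans ((Subgroup.map_mono (Subgroup.derived_le_lower_central h)).trans ?_)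
    rw [Subgroup.map_lowerCentralSeries, ← MonoidHom.range_eq_map, Subgroup.range_subtype]
    exact hγa
  have d3 := derived_shift hG hse d2 c
  exact le_bot_iff.mp (d3.trans ((ser_antitone (show e ≤ e - c + c by omega)).trans U.bot.le))

end Cfsg.Agent.Grp.Alperin
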