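import Mathlib
import Cfsg.Agent.Lib.Grp.AlperinDL.UniformBound

/-!
A strongly powerful group with an automorphism of order dividing `p` with at most `p ^ n` fixed points
has derived length bounded by the order of its first power factor.
-/

set_option autoImplicit false
set_option linter.unusedSectionVars false
set_option linter.style.haveILetI false

namespace Cfsg.Agent.Grp.Alperin

open Subgroup
open scoped commutatorElement

universe u

variable {G : Type u} [Group G] [Finite G] {p : ℕ} [hp : Fact p.Prime]

/-- The factors of the power series decrease. -/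
theorem relIndex_ser_le (hG : IsPGroup p G) (h : SE p (⊤ : Subgroup G)) (a : ℕ) :
    (ser G p (a + 2)).relIndex (ser G p (a + 1)) ≤ (ser G p (a + 1)).relIndex (ser G p a) := by
  classical
  set K := ser G p (a + 2)
  let φ : ser G p a →* G ⧸ K := MonoidHom.mk' (fun x => QuotientGroup.mk' K ((x : G) ^ p)) (by
    intro u v
    have h1 := pow_mul_eqv hG h (l := a + 2) (by omega) u.2 v.2
    rw [eqv_iff] at h1
    rw [← map_mul]
    exact h1)
  have hrange : φ.range = (ser G p (a + 1)).map (QuotientGroup.mk' K) := by
    refine le_antisymm ?_ ?_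
    · rintro _ ⟨u, rfl⟩
      exact ⟨_, pow_mem_ser u.2, rfl⟩
    · rintro _ ⟨y, hy, rfl⟩
      obtain ⟨u, hu, he⟩ := exists_pow_succ hG h hy
      exact ⟨⟨u, hu⟩, (eqv_iff.mp he)⟩
  have hker : (ser G p (a + 1)).subgroupOf (ser G p a) ≤ φ.ker := by
    intro u hu
    exact (QuotientGroup.eq_one_iff _).mpr (pow_mem_ser hu)
  have hidx : φ.ker.index = K.relIndex (ser G p (a + 1)) := by
    rw [Subgroup.index_ker, hrange]
    have h1 : ((QuotientGroup.mk' K).comp (ser G p (a + 1)).subtype).range =
        (ser G p (a + 1)).map (QuotientGroup.mk' K) := by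
      rw [MonoidHom.range_comp, Subgroup.range_subtype]
    rw [← h1, ← Subgroup.index_ker, ← MonoidHom.comap_ker, QuotientGroup.ker_mk']
    rfl
  rw [← hidx]
  exact Nat.le_of_dvd (Nat.pos_of_ne_zero Subgroup.index_ne_zero_of_finite)
    (Subgroup.index_dvd_of_le hker)

theorem se_bound (n : ℕ) : ∀ (B : ℕ) (G : Type u) [Group G] [Finite G], IsPGroup p G →
    SE p (⊤ : Subgroup G) → ∀ α : MulAut G, AutOK p (p ^ n) α →
    (ser G p 1).relIndex (ser G p 0) ≤ B → derivedSeries G (B * uBd p n) = ⊥ := by
  intro B
  induction B with
  | zero =>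
    intro G _ _ _ _ _ _ hd
    have : (ser G p 1).relIndex (ser G p 0) ≠ 0 := Subgroup.index_ne_zero_of_finite
    omega
  | succ B ih =>
    intro G _ _ hG h α hα hd
    classical
    set d : ℕ → ℕ := fun i => (ser G p (i + 1)).relIndex (ser G p i) with hdd
    have hpos : ∀ i, 0 < d i := fun i => Nat.pos_of_ne_zero Subgroup.index_ne_zero_of_finite
    have hmono : ∀ i, d i ≤ d 0 := by
      intro i
      induction i with
      | zero => exact le_rfl
      | succ i ihi => exact (relIndex_ser_le hG h i).trans ihi
    rcases (Nat.succ_le_iff.mpr (hpos 0)).eq_or_lt with h1 | h1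
    · have h2 : ser G p 0 ≤ ser G p 1 := Subgroup.relIndex_eq_one.mp h1.symm
      have h3 : ser G p 0 = ⊥ := eq_bot_of_le_pw hG h2
      rw [ser_zero] at h3
      refine le_bot_iff.mp (le_trans le_top h3.le)
    have hex : ∃ i, d i < d 0 := by
      by_contra hno
      push Not at hno
      have key : ∀ i, Nat.card (ser G p i) * 2 ^ i ≤ Nat.card G := by
        intro i
        induction i with
        | zero => rw [ser_zero, Subgroup.card_top, pow_zero, mul_one]
        | succ i ihi =>
          refine le_trans ?_ ihi
          rw [← Subgroup.card_mul_index ((ser G p (i + 1)).subgroupOf (ser G p i)),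
            Nat.card_congr (Subgroup.subgroupOfEquivOfLe (ser_antitone (Nat.le_succ i))).toEquiv,
            pow_succ', ← mul_assoc]
          exact Nat.mul_le_mul_right _ (Nat.mul_le_mul_left _ (h1.trans_le (hno i)))
      have h2 := key (Nat.card G)
      have h3 : 1 ≤ Nat.card (ser G p (Nat.card G)) := Nat.card_pos
      have h4 := Nat.lt_two_pow_self (n := Nat.card G)
      have h5 := Nat.mul_le_mul_right (2 ^ Nat.card G) h3
      omega
    set e := Nat.find hex with he
    have helt : ∀ i < e, d i = d 0 := fun i hi =>
      le_antisymm (hmono i) (not_lt.mp (Nat.find_min hex hi))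
    have hed : d e < d 0 := Nat.find_spec hex
    set K := ser G p e with hK
    set q := QuotientGroup.mk' K
    have hq : Function.Surjective q := QuotientGroup.mk'_surjective K
    have hser : ∀ i, (ser G p i).map q = ser (G ⧸ K) p i := fun i => by
      show (pwI p i ⊤).map q = pwI p i ⊤
      rw [map_pwI, Subgroup.map_top_of_surjective q hq]
    have hrel : ∀ i < e, (ser (G ⧸ K) p (i + 1)).relIndex (ser (G ⧸ K) p i) = d i := fun i hi => by
      rw [← hser, ← hser, Subgroup.relIndex_map_map, QuotientGroup.ker_mk',
        sup_eq_left.mpr (ser_antitone (show i + 1 ≤ e by omega)),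
        sup_eq_left.mpr (ser_antitone (show i ≤ e by omega))]
    have U : Uniform (G ⧸ K) p e := by
      refine ⟨hG.to_quotient K, ?_, ?_, ?_⟩
      · have := map_SE q hq h
        rwa [Subgroup.map_top_of_surjective q hq] at this
      · rw [← hser, ← le_iff_map_mk]
      · intro i hi
        rw [hrel i hi, helt i hi, hrel 0 (by omega)]
    have hI : Inv α K := inv_ser α e
    have d1 : derivedSeries G (uBd p n) ≤ K :=
      derived_le_of_quotient (uniform_bound U (hα.quot K hI))
    have hSser : ∀ i, (ser (↥K) p i).map K.subtype = ser G p (i + e) := fun i => by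
      show (pwI p i ⊤).map K.subtype = _
      rw [map_pwI, ← MonoidHom.range_eq_map, Subgroup.range_subtype, pwI_ser]
    have hSE : SE p (⊤ : Subgroup ↥K) := by
      refine (Subgroup.map_subtype_le_map_subtype (G' := K)).mp ?_
      rw [Subgroup.map_commutator, map_pw, map_pw, ← MonoidHom.range_eq_map, Subgroup.range_subtype]
      exact (Subgroup.commutator_mono le_rfl le_top).trans (SE_ser hG h e)
    have hd' : (ser (↥K) p 1).relIndex (ser (↥K) p 0) = d e := by
      rw [← Subgroup.relIndex_map_map_of_injective _ _ K.subtype_injective, hSser, hSser,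
        zero_add, add_comm 1 e]
    have hd0 : d 0 ≤ B + 1 := hd
    have d2 := ih ↥K (hG.to_subgroup K) hSE (sAut α K hI) (hα.sub K hI) (by omega)
    rw [Nat.succ_mul, add_comm]
    exact derived_add_bot d1 d2

end Cfsg.Agent.Grp.Alperin
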