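import Mathlib
import Cfsg.Agent.Lib.Grp.AssocLie
import Cfsg.Agent.Lib.Grp.Frattini
import Cfsg.Agent.Lib.Grp.AlperinDL.Rank
import Cfsg.Agent.Lib.Grp.AlperinDL.SEBound

/-!
A finite `p`-group with an automorphism of order dividing `p` with at most `p ^ n` fixed points has
derived length bounded in terms of `p` and `n`: a term of the lower central series centralizes every
small invariant abelian section, hence lies in a strongly powerful subgroup.
-/

set_option autoImplicit false
set_option linter.unusedSectionVars false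
set_option linter.style.haveILetI false

namespace Cfsg.Agent.Grp.Alperin

open Subgroup
open scoped commutatorElement

universe u

variable {G : Type u} [Group G] [Finite G] {p : ℕ} [hp : Fact p.Prime]

/-- The centralizer of a section. -/
def secCent (A B : Subgroup G) [B.Normal] : Subgroup G :=
  (centralizer ((A.map (QuotientGroup.mk' B) : Subgroup (G ⧸ B)) : Set (G ⧸ B))).comap (QuotientGroup.mk' B)

theorem mem_secCent {A B : Subgroup G} [B.Normal] {g : G} :
    g ∈ secCent A B ↔ ∀ a ∈ A, ⁅a, g⁆ ∈ B := by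
  rw [secCent, mem_comap, Subgroup.mem_centralizer_iff]
  constructor
  · intro h a ha
    rw [← QuotientGroup.eq_one_iff, ← QuotientGroup.mk'_apply, map_commutatorElement,
      commutatorElement_eq_one_iff_mul_comm]
    exact h _ ⟨a, ha, rfl⟩
  · rintro h _ ⟨a, ha, rfl⟩
    rw [← commutatorElement_eq_one_iff_mul_comm, ← map_commutatorElement, QuotientGroup.mk'_apply,
      QuotientGroup.eq_one_iff]
    exact h a ha

instance secCent_normal (A B : Subgroup G) [A.Normal] [B.Normal] : (secCent A B).Normal := by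
  haveI : (A.map (QuotientGroup.mk' B)).Normal :=
    (inferInstance : A.Normal).map _ (QuotientGroup.mk'_surjective _)
  exact (inferInstance : (centralizer ((A.map (QuotientGroup.mk' B) : Subgroup (G ⧸ B)) :
    Set (G ⧸ B))).Normal).comap _

/-- A small invariant abelian section. -/
structure SmallSec (p : ℕ) (α : MulAut G) (A B : Subgroup G) : Prop where
  nA : A.Normal
  nB : B.Normal
  iA : Inv α A
  iB : Inv α B
  le : B ≤ A
  comm : ⁅A, A⁆ ≤ B
  exp : ∀ a ∈ A, a ^ p ^ 2 ∈ B

/-- The elements acting trivially on all small invariant abelian sections. -/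
def secKer (p : ℕ) (α : MulAut G) : Subgroup G :=
  ⨅ (A : Subgroup G) (B : Subgroup G) (h : SmallSec p α A B),
    haveI := h.nB; secCent A B

theorem mem_secKer {α : MulAut G} {g : G} :
    g ∈ secKer p α ↔ ∀ A B : Subgroup G, SmallSec p α A B → ∀ a ∈ A, ⁅a, g⁆ ∈ B := by
  simp only [secKer, Subgroup.mem_iInf]
  exact forall_congr' fun A => forall_congr' fun B => forall_congr' fun h => by
    haveI := h.nB; exact mem_secCent

instance secKer_normal (α : MulAut G) : (secKer p α).Normal := by
  refine Subgroup.normal_iInf_normal fun A => Subgroup.normal_iInf_normal fun B =>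
    Subgroup.normal_iInf_normal fun h => ?_
  haveI := h.nA
  haveI := h.nB
  exact secCent_normal A B

theorem inv_secKer (α : MulAut G) : Inv α (secKer p α) := by
  refine inv_of_le fun x hx => mem_secKer.mpr fun A B h a ha => ?_
  obtain ⟨b, hb, rfl⟩ : a ∈ A.map α.toMonoidHom := h.iA.symm ▸ ha
  have := Inv.mem h.iB (mem_secKer.mp hx A B h b hb)
  rwa [map_commutatorElement] at this

theorem card_sec_le (hG : IsPGroup p G) {n : ℕ} {α : MulAut G} (hα : AutOK p (p ^ n) α)
    {A B : Subgroup G} (h : SmallSec p α A B) : B.relIndex A ≤ p ^ (2 * p * n) := by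
  haveI := h.nB
  have hI : Inv (sAut α A h.iA) (B.subgroupOf A) := inv_of_le fun x hx => Inv.mem h.iB hx
  have h1 := card_abelian_le (p := p) (A := ↥A ⧸ B.subgroupOf A) (m := p ^ n) (fun x y => ?_) (fun x => ?_)
    ((hα.sub A h.iA).quot (B.subgroupOf A) hI)
  · rw [← pow_mul, mul_comm n (2 * p)] at h1
    exact h1
  · obtain ⟨x, rfl⟩ := QuotientGroup.mk_surjective x
    obtain ⟨y, rfl⟩ := QuotientGroup.mk_surjective y
    rw [← commutatorElement_eq_one_iff_mul_comm]
    exact (QuotientGroup.eq_one_iff ⁅x, y⁆).mpr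
      (h.comm (Subgroup.commutator_mem_commutator x.2 y.2))
  · obtain ⟨x, rfl⟩ := QuotientGroup.mk_surjective x
    exact (QuotientGroup.eq_one_iff (x ^ p ^ 2)).mpr (h.exp x x.2)

/-- The descending chain of a section. -/
def secChain (A B : Subgroup G) : ℕ → Subgroup G
  | 0 => A
  | k + 1 => ⁅secChain A B k, (⊤ : Subgroup G)⁆ ⊔ B

theorem lcs_le_secKer (hG : IsPGroup p G) {n : ℕ} {α : MulAut G} (hα : AutOK p (p ^ n) α) :
    (⊤ : Subgroup G).lowerCentralSeries (2 * p * n) ≤ secKer p α := by
  classical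
  intro g hg
  refine mem_secKer.mpr fun A B h a ha => ?_
  haveI := h.nA
  haveI := h.nB
  set r := 2 * p * n with hr
  let C : ℕ → Subgroup G := secChain A B
  have hC0 : C 0 = A := rfl
  have hCs : ∀ k, C (k + 1) = ⁅C k, (⊤ : Subgroup G)⁆ ⊔ B := fun k => rfl
  have hn : ∀ k, (C k).Normal := by
    intro k
    induction k with
    | zero => exact h.nA
    | succ k ih =>
      rw [hCs]
      haveI := ih
      haveI : (⁅C k, (⊤ : Subgroup G)⁆).Normal := Subgroup.commutator_normal _ _
      exact Subgroup.sup_normal _ _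
  have hB : ∀ k, B ≤ C k := by
    intro k
    cases k with
    | zero => exact h.le
    | succ k => rw [hCs]; exact le_sup_right
  have hanti : ∀ k, C (k + 1) ≤ C k := fun k => by
    haveI := hn k
    rw [hCs]; exact sup_le (Subgroup.commutator_le_left _ _) (hB k)
  have hcard : ∀ k, C k ≤ B ∨ Nat.card (C k) * p ^ k ≤ Nat.card A := by
    intro k
    induction k with
    | zero => right; rw [hC0, pow_zero, mul_one]
    | succ k ih =>
      rcases ih with ih | ih
      · exact Or.inl ((hanti k).trans ih)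
      by_cases hkB : C k ≤ B
      · exact Or.inl ((hanti k).trans hkB)
      right
      refine le_trans ?_ ih
      haveI := hn k
      have hne : C (k + 1) ≠ C k := fun e => hkB (le_of_le_sup_commutator hG (K := B) (by
        rw [sup_comm, ← hCs, e]))
      obtain ⟨j, hj⟩ := IsPGroup.iff_card.mp (hG.to_subgroup (C k))
      obtain ⟨i, hi⟩ := IsPGroup.iff_card.mp (hG.to_subgroup (C (k + 1)))
      have hlt : Nat.card (C (k + 1)) < Nat.card (C k) :=
        Nat.lt_of_le_of_ne (Subgroup.card_le_of_le (hanti k)) fun e =>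
          hne (Subgroup.eq_of_le_of_card_ge (hanti k) e.ge)
      rw [hi, hj] at hlt ⊢
      have hij : i < j := (Nat.pow_lt_pow_iff_right hp.out.one_lt).mp hlt
      rw [← pow_add, ← pow_add]
      exact Nat.pow_le_pow_right hp.out.pos (by omega)
  have hrB : C r ≤ B := by
    rcases hcard r with h1 | h1
    · exact h1
    have h2 : Nat.card A ≤ Nat.card B * p ^ r := by
      rw [← Subgroup.card_mul_index (B.subgroupOf A),
        Nat.card_congr (Subgroup.subgroupOfEquivOfLe h.le).toEquiv]
      exact Nat.mul_le_mul_left _ (card_sec_le hG hα h)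
    exact (Subgroup.eq_of_le_of_card_ge (hB r)
      (Nat.le_of_mul_le_mul_right (h1.trans h2) (pow_pos hp.out.pos r))).ge
  have key : ∀ j k, ⁅C k, (⊤ : Subgroup G).lowerCentralSeries j⁆ ≤ C (k + j + 1) := by
    intro j
    induction j with
    | zero =>
      intro k
      rw [Subgroup.lowerCentralSeries_zero, add_zero, hCs]
      exact le_sup_left
    | succ j ih =>
      intro k
      haveI := hn (k + (j + 1) + 1)
      rw [Subgroup.lowerCentralSeries_succ, Subgroup.commutator_comm (C k)]
      refine AssocLie.three_subgroups _ _ _ _ ?_ ?_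
      · rw [Subgroup.commutator_comm (⊤ : Subgroup G) (C k)]
        refine (Subgroup.commutator_mono (show ⁅C k, (⊤ : Subgroup G)⁆ ≤ C (k + 1) from le_sup_left) le_rfl).trans ?_
        rw [show k + (j + 1) + 1 = k + 1 + j + 1 by omega]
        exact ih (k + 1)
      · refine (Subgroup.commutator_mono (ih k) le_rfl).trans ?_
        rw [show k + (j + 1) + 1 = k + j + 1 + 1 by omega, hCs (k + j + 1)]
        exact le_sup_left
  have h1 := key r 0 (Subgroup.commutator_mem_commutator ha hg)
  rw [zero_add] at h1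
  exact hrB (hanti r h1)

/-- The kernel of the small sections is strongly powerful. -/
theorem secKer_SE (hG : IsPGroup p G) {α : MulAut G} (hα : α ^ p = 1) :
    ⁅secKer p α, secKer p α⁆ ≤ pw p (pw p (secKer p α)) := by
  classical
  set V := secKer p α with hV
  set W := pw p (pw p V) with hW
  have hWV : W ≤ V := (pw_le_self _).trans (pw_le_self _)
  have hWi : Inv α W := by
    show W.map α.toMonoidHom = W
    rw [hW, map_pw, map_pw, inv_secKer α]
  set q := QuotientGroup.mk' W
  have hq : Function.Surjective q := QuotientGroup.mk'_surjective W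
  set γ := qAut α W hWi
  rw [le_iff_map_mk, Subgroup.map_commutator]
  set Vb := V.map q with hVb
  haveI : Vb.Normal := Subgroup.Normal.map inferInstance q hq
  have hVbi : Inv γ Vb := inv_of_le fun x hx => by
    obtain ⟨v, hv, rfl⟩ := hx
    exact ⟨α v, Inv.mem (inv_secKer α) hv, rfl⟩
  let P : Subgroup (G ⧸ W) → Prop := fun A => A.Normal ∧ Inv γ A ∧ A ≤ Vb ∧ ⁅A, A⁆ = ⊥
  obtain ⟨A, hA, hAmax⟩ := Set.Finite.exists_maximal (Set.toFinite {A | P A})
    ⟨⊥, (inferInstance : (⊥ : Subgroup (G ⧸ W)).Normal), Subgroup.map_bot _, bot_le,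
      le_bot_iff.mp (Subgroup.commutator_le_left _ _)⟩
  obtain ⟨hAn, hAi, hAV, hAab⟩ := hA
  have hcVb : V = Vb.comap q := by
    rw [hVb, Subgroup.comap_map_eq, QuotientGroup.ker_mk', sup_eq_left.mpr hWV]
  have hAc : A.comap q ≤ V := (Subgroup.comap_mono hAV).trans hcVb.ge
  have hsec : SmallSec p α (A.comap q) W := by
    refine ⟨hAn.comap q, inferInstance, inv_of_le fun x hx => ?_, hWi, ?_, ?_, ?_⟩
    · exact Inv.mem hAi hx
    · intro x hx
      show q x ∈ A
      rw [show q x = 1 from (QuotientGroup.eq_one_iff x).mpr hx]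
      exact one_mem A
    · rw [le_iff_map_mk, Subgroup.map_commutator, Subgroup.map_comap_eq_self_of_surjective hq, hAab]
    · intro a ha
      rw [pow_two, pow_mul]
      exact pow_mem_pw (pow_mem_pw (hAc ha))
  have hcentral : ∀ a ∈ A, ∀ v ∈ Vb, Commute a v := by
    rintro a ha _ ⟨v, hv, rfl⟩
    obtain ⟨a, rfl⟩ := hq a
    refine commutatorElement_eq_one_iff_mul_comm.mp ?_
    rw [← map_commutatorElement]
    exact (QuotientGroup.eq_one_iff _).mpr (mem_secKer.mp hv _ _ hsec a ha)
  by_contra hne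
  have hAne : A ≠ Vb := fun e => hne (e ▸ hAab)
  set q2 := QuotientGroup.mk' A
  have hq2 : Function.Surjective q2 := QuotientGroup.mk'_surjective A
  have hP2 : IsPGroup p ((G ⧸ W) ⧸ A) := (hG.to_quotient W).to_quotient A
  haveI := hP2.isNilpotent
  set X := Vb.map q2 with hX
  haveI : X.Normal := Subgroup.Normal.map inferInstance q2 hq2
  have hXne : X ≠ ⊥ := fun e => hAne (le_antisymm hAV ((le_iff_map_mk _ _).mpr e))
  set δ := qAut γ A hAi
  set Z := X ⊓ center ((G ⧸ W) ⧸ A) with hZ
  have hZi : Inv δ Z := inv_of_le fun x hx => by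
    refine ⟨?_, Inv.mem inv_of_char hx.2⟩
    obtain ⟨v, hv, rfl⟩ := hx.1
    exact ⟨γ v, Inv.mem hVbi hv, rfl⟩
  have hZne : Nat.card Z ≠ 1 := fun e =>
    inf_center_ne_bot X hXne (Subgroup.card_eq_one.mp e)
  obtain ⟨k, hk⟩ := IsPGroup.iff_card.mp (hP2.to_subgroup Z)
  have hpZ : p ∣ Nat.card Z := by
    rw [hk]
    exact dvd_pow_self p (fun e => hZne (by rw [hk, e, pow_zero]))
  have hγp : γ ^ p = 1 := MulEquiv.ext fun x => by
    obtain ⟨x, rfl⟩ := QuotientGroup.mk_surjective x
    rw [qAut_pow, hα]; rfl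
  have hδp : δ ^ p = 1 := MulEquiv.ext fun x => by
    obtain ⟨x, rfl⟩ := QuotientGroup.mk_surjective x
    rw [qAut_pow, hγp]; rfl
  have hσ : (MulAut.toPerm ↥Z (sAut δ Z hZi)) ^ p ^ 1 = 1 := by
    rw [pow_one, ← map_pow]
    rw [show sAut δ Z hZi ^ p = 1 from MulEquiv.ext fun x => Subtype.ext (by
      rw [sAut_pow, hδp]; rfl), map_one]
  haveI := Fintype.ofFinite ↥Z
  obtain ⟨⟨z, hz⟩, hzfix, hzne⟩ := Equiv.Perm.exists_fixed_point_of_prime' (p := p) (n := 1)
    (by rwa [← Nat.card_eq_fintype_card]) hσ (a := (1 : ↥Z)) (map_one (sAut δ Z hZi))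
  have hzfix' : δ z = z := congrArg Subtype.val hzfix
  have hz1 : z ≠ 1 := fun e => hzne (Subtype.ext e)
  obtain ⟨g, hg, hgz⟩ := hz.1
  haveI : (zpowers z).Normal := ⟨fun x hx y => by
    have hxc : x ∈ center ((G ⧸ W) ⧸ A) := zpowers_le.mpr hz.2 hx
    rwa [Subgroup.mem_center_iff.mp hxc y, mul_inv_cancel_right]⟩
  set A' := (zpowers z).comap q2 with hA'
  have hAA' : A ≤ A' := fun x hx => by
    show q2 x ∈ zpowers z
    rw [show q2 x = 1 from (QuotientGroup.eq_one_iff x).mpr hx]
    exact one_mem _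
  have hform : ∀ x ∈ A', ∃ i : ℤ, (g ^ i)⁻¹ * x ∈ A := by
    intro x hx
    obtain ⟨i, hi⟩ := Subgroup.mem_zpowers_iff.mp hx
    refine ⟨i, QuotientGroup.eq.mp ?_⟩
    show q2 (g ^ i) = q2 x
    rw [map_zpow, hgz, hi]
  have hP' : P A' := by
    refine ⟨inferInstance, inv_of_le fun x hx => ?_, ?_, ?_⟩
    · obtain ⟨i, hi⟩ := Subgroup.mem_zpowers_iff.mp hx
      refine Subgroup.mem_zpowers_iff.mpr ⟨i, ?_⟩
      show z ^ i = δ (q2 x)
      rw [← hi, map_zpow, hzfix']
    · intro x hx
      obtain ⟨i, hi⟩ := hform x hx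
      have := Vb.mul_mem (Vb.zpow_mem hg i) (hAV hi)
      rwa [mul_inv_cancel_left] at this
    · refine commutator_eq_bot_iff.mpr fun x hx y hy => ?_
      obtain ⟨i, hi⟩ := hform x hx
      obtain ⟨j, hj⟩ := hform y hy
      rw [show x = g ^ i * ((g ^ i)⁻¹ * x) by group, show y = g ^ j * ((g ^ j)⁻¹ * y) by group]
      refine Commute.mul_left (Commute.mul_right ?_ ?_) (Commute.mul_right ?_ ?_)
      · exact (Commute.refl g).zpow_zpow i j
      · exact (hcentral _ hj _ (Vb.zpow_mem hg i)).symm
      · exact hcentral _ hi _ (Vb.zpow_mem hg j)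
      · exact hcentral _ hi _ (hAV hj)
  have hgA' : g ∈ A' := by
    show q2 g ∈ zpowers z
    rw [hgz]; exact mem_zpowers z
  have hgA : g ∈ A := hAmax hP' hAA' hgA'
  exact hz1 (hgz ▸ (QuotientGroup.eq_one_iff g).mpr hgA)

/-- The bound for `p`-groups. -/
def pBd (p n : ℕ) : ℕ := 2 * p * n + p ^ (2 * p * n) * uBd p n

theorem pgroup_bound (hG : IsPGroup p G) {n : ℕ} {α : MulAut G} (hα : AutOK p (p ^ n) α) :
    derivedSeries G (pBd p n) = ⊥ := by
  set V := secKer p α with hV
  have hI : Inv α V := inv_secKer α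
  have hSE : SE p (⊤ : Subgroup ↥V) := by
    refine (Subgroup.map_subtype_le_map_subtype (G' := V)).mp ?_
    rw [Subgroup.map_commutator, map_pw, map_pw, ← MonoidHom.range_eq_map, Subgroup.range_subtype]
    exact secKer_SE hG hα.pow
  have hV' : IsPGroup p V := hG.to_subgroup V
  have hsec : SmallSec p (sAut α V hI) (⊤ : Subgroup ↥V) (ser ↥V p 1) := by
    refine ⟨inferInstance, inferInstance, Subgroup.map_top_of_surjective _ (sAut α V hI).surjective,
      inv_ser _ 1, le_top, hSE.trans (pw_le_self _), fun a _ => ?_⟩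
    rw [pow_two, pow_mul]
    exact Subgroup.pow_mem _ (pow_mem_pw (Subgroup.mem_top a)) p
  have hd : (ser ↥V p 1).relIndex (ser ↥V p 0) ≤ p ^ (2 * p * n) :=
    card_sec_le hV' (hα.sub V hI) hsec
  exact derived_add_bot ((Subgroup.derived_le_lower_central _).trans (lcs_le_secKer hG hα))
    (se_bound n _ ↥V hV' hSE _ (hα.sub V hI) hd)

end Cfsg.Agent.Grp.Alperin
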