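import Mathlib
import Cfsg.Prelude.Def_Local
import Cfsg.Agent.Lib.Grp.Cores
import Cfsg.Agent.Lib.Grp.Solvable
import Cfsg.Agent.Lib.Grp.PSolvable
import Cfsg.Agent.Lib.Grp.FrattiniKernel
import Cfsg.Agent.Lib.Grp.AlperinDL.PGroup

/-!
Alperin's theorem: the derived length of a finite soluble group with an automorphism of order
dividing `p` with at most `p ^ n` fixed points is bounded in terms of `p` and `n`.
-/

set_option autoImplicit false
set_option linter.unusedSectionVars false
set_option linter.style.haveILetI false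

namespace Cfsg.Agent.Grp.Alperin

open Subgroup
open scoped commutatorElement

universe u

variable {p : ℕ} [hp : Fact p.Prime]

theorem pCore_char (H : Type u) [Group H] [Finite H] : (Cfsg.pCore p H).Characteristic :=
  Subgroup.characteristic_iff_map_le.mpr fun e => by
    haveI := pCore_isNormal (p := p) (G := H)
    exact le_pCore (Subgroup.Normal.map inferInstance e.toMonoidHom e.surjective)
      (pCore_isPGroup.map e.toMonoidHom)

theorem pPrimeCore_char' (H : Type u) [Group H] [Finite H] : (Cfsg.pPrimeCore p H).Characteristic :=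
  Subgroup.characteristic_iff_map_le.mpr fun e => by
    haveI := pPrimeCore_isNormal (p := p) (G := H)
    exact le_pPrimeCore (Subgroup.Normal.map inferInstance e.toMonoidHom e.surjective)
      (by rw [Subgroup.card_map_of_injective e.injective]; exact pPrimeCore_coprime)

/-- Extension by a normal subgroup of `p`-power or `p'` order. -/
theorem isPSolvable_extend {G : Type u} [Group G] [Finite G] (N : Subgroup G) [N.Normal]
    (hN : (∃ m, Nat.card N = p ^ m) ∨ (Nat.card N).Coprime p) (h : Cfsg.IsPSolvable p (G ⧸ N)) :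
    Cfsg.IsPSolvable p G := by
  obtain ⟨n, H, h0, hl, hm, hn, hi⟩ := h
  set f := QuotientGroup.mk' N with hf
  let K : Fin (n + 2) → Subgroup G := Fin.cases ⊥ fun i => (H i).comap f
  refine ⟨n + 1, K, rfl, ?_, Fin.monotone_iff_le_succ.2 fun i => ?_, fun i => ?_, fun i => ?_⟩
  · rw [← Fin.succ_last]
    show (H (Fin.last n)).comap f = ⊤
    rw [hl, Subgroup.comap_top]
  · induction i using Fin.cases with
    | zero => exact bot_le
    | succ j =>
      rw [← Fin.succ_castSucc]
      exact Subgroup.comap_mono (hm j.castSucc_le_succ)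
  · induction i using Fin.cases with
    | zero => exact (inferInstance : (⊥ : Subgroup G).Normal)
    | succ j => exact (hn j).comap f
  · induction i using Fin.cases with
    | zero =>
      show (∃ m, (⊥ : Subgroup G).relIndex ((H 0).comap f) = p ^ m) ∨
        ((⊥ : Subgroup G).relIndex ((H 0).comap f)).Coprime p
      rw [h0, MonoidHom.comap_bot, hf, QuotientGroup.ker_mk', Subgroup.relIndex_bot_left]
      exact hN
    | succ j =>
      rw [← Fin.succ_castSucc]
      show (∃ m, ((H j.castSucc).comap f).relIndex ((H j.succ).comap f) = p ^ m) ∨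
        (((H j.castSucc).comap f).relIndex ((H j.succ).comap f)).Coprime p
      rw [Subgroup.relIndex_comap, Subgroup.map_comap_eq_self_of_surjective
        (QuotientGroup.mk'_surjective N)]
      exact hi j

theorem isPSolvable_solvable : ∀ (n : ℕ) (G : Type u) [Group G] [Finite G],
    Nat.card G = n → Group.IsSolvable G → Cfsg.IsPSolvable p G := by
  intro n
  induction n using Nat.strong_induction_on with
  | _ n ih =>
  intro G _ _ hn hs
  rcases subsingleton_or_nontrivial G with h1 | h1
  · exact ⟨0, ![⊥], rfl, Subsingleton.elim _ _, fun _ _ _ => le_of_eq (by congr 1; exact Subsingleton.elim _ _),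
      fun i => by fin_cases i; exact (inferInstance : (⊥ : Subgroup G).Normal), fun i => i.elim0⟩
  obtain ⟨N, ⟨hNn, hN1⟩, hmin⟩ := (Set.toFinite {N : Subgroup G | N.Normal ∧ N ≠ ⊥}).exists_minimal
    ⟨⊤, inferInstance, top_ne_bot⟩
  haveI := hNn
  haveI := hs
  obtain ⟨q, hq, hqN⟩ := minimal_normal_solvable_isPGroup (N := N) inferInstance hN1
    (fun M hM hle => by
      by_contra hcon
      rw [not_or] at hcon
      exact hcon.2 (le_antisymm hle (hmin ⟨hM, hcon.1⟩ hle)))
  haveI := Fact.mk hq
  obtain ⟨k, hk⟩ := IsPGroup.iff_card.1 hqN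
  refine isPSolvable_extend N ?_
    (ih _ (hn ▸ card_quotient_lt hN1) (G ⧸ N) rfl inferInstance)
  by_cases hqp : q = p
  · exact Or.inl ⟨k, hqp ▸ hk⟩
  · exact Or.inr (hk ▸ ((Nat.coprime_primes hq hp.out).2 hqp).pow_left k)

theorem inv_derived {G : Type u} [Group G] [Finite G] (α : MulAut G) (k : ℕ) :
    Inv α (derivedSeries G k) := inv_of_char

/-- The coprime case. -/
theorem coprime_bound : ∀ (m : ℕ) (Q : Type u) [Group Q] [Finite Q], Group.IsSolvable Q →
    ¬ p ∣ Nat.card Q → ∀ α : MulAut Q, AutOK p m α → derivedSeries Q (m * (hBd p + 2)) = ⊥ := by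
  intro m
  induction m with
  | zero =>
    intro Q _ _ _ _ α hα
    have : 0 < Nat.card {g : Q // α g = g} := Nat.card_pos_iff.mpr ⟨⟨⟨1, map_one α⟩⟩, inferInstance⟩
    exact absurd hα.fix (by omega)
  | succ m ih =>
    intro Q _ _ hs hcop α hα
    classical
    haveI := hs
    let P : Subgroup Q → Prop := fun M => M.Normal ∧ Inv α M ∧ ∀ g ∈ M, α g = g → g = 1
    obtain ⟨M, hM, hMmax⟩ := Set.Finite.exists_maximal (Set.toFinite {M | P M})
      ⟨⊥, (inferInstance : (⊥ : Subgroup Q).Normal), Subgroup.map_bot _, fun g hg _ => Subgroup.mem_bot.mp hg⟩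
    obtain ⟨hMn, hMi, hMf⟩ := hM
    haveI := hMn
    have hM' : derivedSeries ↥M (hBd p) = ⊥ := by
      refine le_bot_iff.mp ((Subgroup.derived_le_lower_central _).trans ?_)
      have hk := AssocLie.higman_kreknin (p := p) (sAut α M hMi) (hα.sub M hMi).pow
        (fun g hg => Subtype.ext (hMf g g.2 (congrArg Subtype.val hg)))
      exact hk ▸ AssocLie.lcs_le (Nat.le_add_right _ 2)
    by_cases htop : M = ⊤
    · refine derived_le_mono ?_ (derived_add_bot (H := M) (a := 0) (by rw [htop]; exact le_top) hM')
      rw [Nat.succ_mul]; omega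
    have hex : ∃ j, derivedSeries Q j ≤ M := ⟨_, by rw [derived_card]; exact bot_le⟩
    set j := Nat.find hex with hj
    have hj0 : j ≠ 0 := fun e => htop (top_le_iff.mp (by
      have h0 := Nat.find_spec hex
      rwa [← hj, e, derivedSeries_zero] at h0))
    obtain ⟨k, hk⟩ := Nat.exists_eq_succ_of_ne_zero hj0
    set N := derivedSeries Q k ⊔ M with hN
    haveI : (derivedSeries Q k).Normal := inferInstance
    have hNi : Inv α N := by
      show (derivedSeries Q k ⊔ M).map α.toMonoidHom = _
      rw [Subgroup.map_sup, inv_derived α k, hMi]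
    have hNM : ¬ N ≤ M := fun h => Nat.find_min hex (show k < j by omega) (le_sup_left.trans h)
    obtain ⟨c, hc, hcf, hc1⟩ : ∃ c ∈ N, α c = c ∧ c ≠ 1 := by
      by_contra hno
      push Not at hno
      exact hNM (hMmax (show P N from ⟨inferInstance, hNi, hno⟩) le_sup_right)
    have hquot : AutOK p m (qAut α N hNi) := by
      refine ⟨(hα.quot N hNi).pow, ?_⟩
      have h1 := card_fix_quotient_lt α hα.pow hcop N hNi hc hc1 hcf
      have h2 := hα.fix
      omega
    have hcop' : ¬ p ∣ Nat.card (Q ⧸ N) := fun h => hcop (h.trans (Subgroup.card_quotient_dvd_card N))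
    have d1 : derivedSeries Q (m * (hBd p + 2)) ≤ N :=
      derived_le_of_quotient (ih (Q ⧸ N) inferInstance hcop' _ hquot)
    have hNN : ⁅N, N⁆ ≤ M := by
      have h1 : derivedSeries Q (k + 1) ≤ M := by
        have := Nat.find_spec hex
        rwa [← hj, hk] at this
      rw [derivedSeries_succ, le_iff_map_mk, Subgroup.map_commutator] at h1
      rw [le_iff_map_mk, Subgroup.map_commutator, hN, Subgroup.map_sup, (le_iff_map_mk M M).mp le_rfl,
        sup_bot_eq]
      exact h1
    have d2 : derivedSeries Q (m * (hBd p + 2) + 1) ≤ M := by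
      rw [derivedSeries_succ]
      exact (Subgroup.commutator_mono d1 d1).trans hNN
    refine derived_le_mono ?_ (derived_add_bot d2 hM')
    rw [Nat.succ_mul]; omega

/-- The bound for groups with trivial `p'`-core. -/
def cBound (p n : ℕ) : ℕ := ((p ^ n) ^ (2 * p)).factorial + pBd p n

theorem core_bound (G : Type u) [Group G] [Finite G] (hs : Group.IsSolvable G)
    (hO : Cfsg.pPrimeCore p G = ⊥) {n : ℕ} {α : MulAut G} (hα : AutOK p (p ^ n) α) :
    derivedSeries G (cBound p n) = ⊥ := by
  classical
  haveI := hs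
  haveI := pCore_char (p := p) G
  set F := Cfsg.pCore p G with hF
  have hFp : IsPGroup p F := pCore_isPGroup
  have hFi : Inv α F := inv_of_char
  have hcard : Nat.card (↥F ⧸ frattini ↥F) ≤ (p ^ n) ^ (2 * p) := by
    refine card_abelian_le (p := p) (fun x y => ?_) (fun x => ?_)
      ((hα.sub F hFi).quot (frattini ↥F) inv_of_char)
    · obtain ⟨x, rfl⟩ := QuotientGroup.mk_surjective x
      obtain ⟨y, rfl⟩ := QuotientGroup.mk_surjective y
      rw [← commutatorElement_eq_one_iff_mul_comm]
      exact (QuotientGroup.eq_one_iff ⁅x, y⁆).mpr (pGroup_commutator_le_frattini hFp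
        (Subgroup.commutator_mem_commutator (Subgroup.mem_top x) (Subgroup.mem_top y)))
    · obtain ⟨x, rfl⟩ := QuotientGroup.mk_surjective x
      refine (QuotientGroup.eq_one_iff (x ^ p ^ 2)).mpr ?_
      rw [pow_two, pow_mul]
      exact Subgroup.pow_mem _ (pGroup_pow_mem_frattini hFp x) p
  set Φ := (frattini ↥F).map F.subtype with hΦ
  haveI : Φ.Normal := inferInstance
  have hΦF : Φ ≤ F := Subgroup.map_subtype_le _
  set q := QuotientGroup.mk' Φ
  set Fb := F.map q with hFb
  haveI : Fb.Normal := (inferInstance : F.Normal).map _ (QuotientGroup.mk'_surjective Φ)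
  have hFbc : Nat.card Fb = Nat.card (↥F ⧸ frattini ↥F) := by
    have h1 : (q.comp F.subtype).range = Fb := by rw [MonoidHom.range_comp, Subgroup.range_subtype]
    rw [← h1, ← Subgroup.index_ker, ← MonoidHom.comap_ker, QuotientGroup.ker_mk', hΦ,
      Subgroup.comap_map_eq_self_of_injective F.subtype_injective, Subgroup.index_eq_card]
  let ψ : G →* MulAut ↥Fb := (MulAut.conjNormal (H := Fb)).comp q
  have hker : ψ.ker ≤ F := by
    intro g hg
    refine mem_pCore_of_trivial_on_frattini_quotient (isPSolvable_solvable _ G rfl hs) hO fun b hb => ?_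
    have h1 := congrArg Subtype.val (DFunLike.congr_fun (MonoidHom.mem_ker.mp hg) ⟨q b, b, hb, rfl⟩)
    change q g * q b * (q g)⁻¹ = q b at h1
    show ⁅b, g⁆ ∈ Φ
    rw [← QuotientGroup.eq_one_iff]
    show q ⁅b, g⁆ = 1
    rw [map_commutatorElement, commutatorElement_eq_one_iff_mul_comm]
    exact (mul_inv_eq_iff_eq_mul.mp h1).symm
  have hidx : F.index ≤ ((p ^ n) ^ (2 * p)).factorial := by
    refine (Nat.le_of_dvd (Nat.pos_of_ne_zero Subgroup.index_ne_zero_of_finite)
      (Subgroup.index_dvd_of_le hker)).trans ?_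
    rw [Subgroup.index_ker]
    refine ((Subgroup.card_le_card_group ψ.range).trans ?_).trans (Nat.factorial_le hcard)
    rw [← hFbc]
    have hinj : Function.Injective fun e : MulAut ↥Fb => e.toEquiv := fun a b h =>
      MulEquiv.toEquiv_injective h
    refine (Nat.card_le_card_of_injective _ hinj).trans ?_
    haveI := Fintype.ofFinite ↥Fb
    rw [Nat.card_eq_fintype_card, Nat.card_eq_fintype_card, Fintype.card_perm]
  have d1 : derivedSeries G ((p ^ n) ^ (2 * p)).factorial ≤ F :=
    derived_le_of_quotient (derived_le_mono ((Subgroup.index_eq_card F).symm.le.trans hidx) derived_card)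
  exact derived_add_bot d1 (pgroup_bound hFp (hα.sub F hFi))

/-- The bound of Alperin's theorem. -/
def alperinBd (p n : ℕ) : ℕ := cBound p n + p ^ n * (hBd p + 2)

theorem alperin_bound (G : Type u) [Group G] [Finite G] (hs : Group.IsSolvable G) {n : ℕ}
    {α : MulAut G} (hα : AutOK p (p ^ n) α) : derivedSeries G (alperinBd p n) = ⊥ := by
  haveI := hs
  haveI := pPrimeCore_char' (p := p) G
  have hKi : Inv α (Cfsg.pPrimeCore p G) := inv_of_char
  have d1 : derivedSeries G (cBound p n) ≤ Cfsg.pPrimeCore p G :=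
    derived_le_of_quotient (core_bound _ inferInstance pPrimeCore_quotient_eq_bot (hα.quot _ hKi))
  exact derived_add_bot d1
    (coprime_bound (p ^ n) _ inferInstance pPrimeCore_not_dvd _ (hα.sub _ hKi))

end Cfsg.Agent.Grp.Alperin
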